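import Mathlib
import Cfsg.Agent.Lib.Adj.Pure
import Cfsg.Agent.Lib.NoPQ.Main
import Cfsg.Agent.Lib.SemP.Asp

/-!
# Non-regular elements (package CEN of plans/ADJ.md)
-/

set_option autoImplicit false
set_option linter.unusedSectionVars false

namespace CfsgLib.Adj

open Cfsg Subgroup CfsgLib.RGD CfsgLib.Twist CfsgLib.LieAll CfsgLib.Semi CfsgLib.KInv CfsgLib.SemP CfsgLib.NoPQ

variable {ι κ B : Type} [Fintype κ] [DecidableEq κ] [Finite ι] {Φ : RootSys ι κ}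
  {Ω : Type} [Field Ω] [IsAlgClosed Ω] {G : Type} [Group G] {S : StSys Φ Ω G} {T : Tw S B} {M : Subgroup G}
  {n : Type} [Fintype n] [DecidableEq n] {rep : G →* Matrix n n Ω} {r : ℕ} [Fact r.Prime] [CharP Ω r]
  {a : κ → ℕ} {d f : ℕ} {τ : (κ → Ωˣ) →* G} {s t : ℕ}

/-- the primes that divide the orders of all components of centralisers -/
def Cd (r : ℕ) (a : κ → ℕ) (t : ℕ) : Prop :=
  t = r ∨ t = 2 ∨ (t.Prime ∧ t ≠ 2 ∧ t ≠ r ∧ ∃ k, (∀ i, a i = k) ∧ (r ^ k) ^ 2 ≡ 1 [MOD t])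

theorem cen_nr2 (h : Alg0 r a d f T M rep) (hτ : S.IsTor τ) (hH : ∀ c, τ c ∈ S.H) {x : G} (hx : x ∈ T.Fix)
    (hn : NR Φ τ x) (ht : Cd r a t) : Op (M ⊓ centralizer {x}) t := by
  obtain ⟨z, c, s, rfl, hs⟩ := hn
  have := h.fin
  have : Finite (M ⊓ centralizer {z * τ c * z⁻¹} : Subgroup G) :=
    Finite.of_injective _ (inclusion_injective inf_le_left)
  obtain ⟨x, hx, w, -, -, nf⟩ := h.exists_nf hτ hH (C := {c}) (z₀ := z) fun c' e => e ▸ hx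
  have hs' : s ∈ Psi Φ {c} := fun c' e => e ▸ hs
  let b : Blk Φ (Psi Φ {c}) (w * T.ρ) := Quotient.mk _ ⟨s, hs'⟩
  obtain ⟨X, B', _, S', T', π, hT, fr, k1, k2, k3⟩ := nf.proj (isSub_blk' nf.sub b) (blk_subset b)
    (fun s hs => mem_blk_of_lk hs ((nf.stb.mem nf.wl nf.sub).2 hs.1) (.inr (.inl rfl))) (blk_ort b)
  have h3 : z * x * τ c * (z * x)⁻¹ = z * τ c * z⁻¹ := by
    rw [mul_assoc z x, ← (commute_of_mem_DD hτ hx rfl).eq]; group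
  let C := (M ⊓ centralizer {z * τ c * z⁻¹}).comap (MulAut.conj (z * x)).toMonoidHom
  have : Finite C := Finite.of_injective (fun y : C => (⟨_, y.2⟩ : (M ⊓ centralizer {z * τ c * z⁻¹} : Subgroup G)))
    fun y y' e => Subtype.ext ((MulAut.conj (z * x)).injective (congrArg Subtype.val e))
  obtain ⟨tw, full⟩ := k3 C (fun y hy => (h.amb.tw_eq_iff T _ _).2 (h.good.tw.le_fix hy.1)) (by
    rintro y hy k4 ⟨j, k5⟩
    refine ⟨h.good.tw.gen_le (h.mem_of_pow ((h.amb.tw_eq_iff T _ y).1 k4) (j := j) (by rw [← map_pow, k5, map_one])), ?_⟩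
    rw [← h3]
    exact mem_centralizer_singleton_iff.2
      ((commute_of_mem_DD hτ (mem_sup_left (S.UU_mono (blk_subset b) hy)) rfl).map (MulAut.conj (z * x))).symm.eq)
  obtain ⟨ne, -⟩ := blk_conn nf.sub b T'.toSym hT
  have : Finite (C.subgroupOf (DD S (Psi Φ {c}))) :=
    Finite.of_injective (fun y => (⟨y.1.1, y.2⟩ : C)) fun y y' e =>
      Subtype.ext (Subtype.ext (congrArg (fun u : C => u.1) e))
  have : Finite ((C.subgroupOf (DD S (Psi Φ {c}))).map π) := Finite.of_surjective _ (π.subgroupMap_surjective _)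
  have hr : r.Prime := Fact.out
  have key : t.Prime ∧ Op ((C.subgroupOf (DD S (Psi Φ {c}))).map π) t := by
    rcases ht with rfl | rfl | ⟨y0, y3, h4, k, y1, y2⟩
    · exact ⟨hr, op_char tw hr⟩
    · exact ⟨Nat.prime_two, op_two tw⟩
    · have hk : ∀ s, kk Φ r a s = r ^ k := fun s => by rw [kk, y1]
      obtain ⟨u, u1, u2⟩ := fr.exists_order_of_sq tw.sharp y0 y3 h4 (fun i j => by
        have e := fun i => (hT _).symm.trans (congrArg Subtype.val (T'.ρ_simple i))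
        exact (congrArg₂ (cart Φ) (e i) (e j)).symm.trans (nf.wl.nab_cart hk _ _)) fun s => hk s ▸ y2
      exact ⟨y0, u, tw.gen_le u1, u2⟩
  obtain ⟨y, y1, y2, y3⟩ := Op.of_map key.1 key.2
  refine ⟨MulAut.conj (z * x) y, y1, fun e => y2 (Subtype.ext ((MulAut.conj (z * x)).injective (by simpa using e))), ?_⟩
  rw [← map_pow, ← Subgroup.coe_pow, y3, Subgroup.coe_one, map_one]

variable (h : Alg0 r a d f T M rep) (hτ : S.IsTor τ) (hT : ∀ c, τ c ∈ S.H) {H : Subgroup (MulAut M)} (hH : Inn M ≤ H)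
  (hs : s.Prime)
include h hτ hT hH hs

theorem ex_nr (ht : t.Prime) (hst : s ≠ t) {x : G} (hx : x ∈ T.Fix) (x1 : x ≠ 1) (x2 : x ^ s = 1) (x3 : NR Φ τ x)
    {β : MulAut M} (h2 : Vis H β) (h3 : h.amb.Ind r β x 0) (h1 : Cd r a t) : Ex H (s * t) := by
  have := h.fin
  have := Fact.mk hs
  have h4 : ∀ y : M, (β y : G) = x * y * x⁻¹ := fun y => by rw [h3, h.frob_zero]
  have h5 : ∀ (k : ℕ) (y : M), ((β ^ k) y : G) = x ^ k * y * (x ^ k)⁻¹ := fun k => by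
    induction k with
    | zero => simp
    | succ k ih => intro y; rw [pow_succ', MulAut.mul_apply, h4, ih, pow_succ']; group
  obtain ⟨g, ⟨g1, g0⟩, g2, g3⟩ := cen_nr2 h hτ hT hx x3 h1
  refine ex_of_fixed (mn_center h) hH hs ht hst h2 (orderOf_eq_prime (MulEquiv.ext fun y => Subtype.ext ?_) fun e =>
    x1 (h.eq_one_of_cent hx fun y hy => mul_inv_eq_iff_eq_mul.1 ?_)) (g := ⟨g, g1⟩)
    (fun e => g2 (congrArg Subtype.val e)) (Subtype.ext g3) (Subtype.ext ((h4 _).trans ?_))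
  · simp [h5, x2]
  · rw [← h4 ⟨y, hy⟩, e]; rfl
  · exact mul_inv_eq_of_eq_mul (mem_centralizer_singleton_iff.1 g0).symm

theorem ex_in (ht : t.Prime) (hst : s ≠ t) (h1 : Cd r a t) (hx : ∃ x ∈ M, x ≠ 1 ∧ x ^ s = 1 ∧ NR Φ τ x) :
    Ex H (t * s) := by
  obtain ⟨x, hx, x1, x2, x3⟩ := hx
  obtain ⟨β, h4, h5⟩ := mn_vis h hH hx
  exact (ex_nr h hτ hT hH hs ht hst (h.good.tw.le_fix hx) x1 x2 x3 h4 h5 h1).comm

omit hH

omit h hτ hT hs in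
theorem nregχ_apply (b : ι) (c : κ → Ωˣ) : nregχ Φ Ωˣ b c = Φ.chr c b := rfl

theorem nr_two [Nontrivial κ] (hr : 2 ≠ r) : ∃ x ∈ M, x ≠ 1 ∧ x ^ 2 = 1 ∧ NR Φ τ x := by
  have := h.fin
  obtain ⟨x, hx, x1, x2⟩ := op_two h.good.tw
  exact ⟨x, hx, x1, x2, nr_of_noReg h hτ hT Nat.prime_two hr (noReg_two h.good.conn) (h.good.tw.le_fix hx) x2⟩

theorem nr_of_tor (hr : s ≠ r) {z : G} {c c' : κ → Ωˣ} (h1 : z * τ c * z⁻¹ ∈ M) (h2 : z * τ c' * z⁻¹ ∈ M)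
    (e1 : (z * τ c * z⁻¹) ^ s = 1) (e2 : (z * τ c' * z⁻¹) ^ s = 1) (h3 : z * τ c * z⁻¹ ≠ 1)
    (h4 : z * τ c' * z⁻¹ ∉ zpowers (z * τ c * z⁻¹)) : ∃ x ∈ M, x ≠ 1 ∧ x ^ s = 1 ∧ NR Φ τ x := by
  obtain ⟨i⟩ := h.good.ne
  have := Fact.mk hs
  by_cases h5 : Φ.chr c (Φ.simple i) = 1
  · exact ⟨_, h1, h3, e1, z, c, _, rfl, h5⟩
  have k : ∀ {c}, (z * τ c * z⁻¹) ^ s = 1 → Φ.chr c (Φ.simple i) ^ s = 1 := fun e => by
    rw [← Φ.chr_pow, h.pow_eq_one hτ e, Φ.chr_one]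
  have h6 : IsPrimitiveRoot (Φ.chr c (Φ.simple i)) s := orderOf_eq_prime (k e1) h5 ▸ IsPrimitiveRoot.orderOf _
  have := NeZero.of_pos hs.pos
  obtain ⟨m, -, hm⟩ := h6.eq_pow_of_mem_rootsOfUnity (k e2)
  have e3 : z * τ (c' * (c ^ m)⁻¹) * z⁻¹ = z * τ c' * z⁻¹ * ((z * τ c * z⁻¹) ^ m)⁻¹ := by
    rw [conj_pow, map_mul, map_inv, map_pow]; group
  refine ⟨_, e3 ▸ mul_mem h2 (inv_mem (pow_mem h1 m)), fun e => h4 ⟨m, ?_⟩, ?_, z, _, Φ.simple i, rfl, ?_⟩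
  · exact (zpow_natCast _ _).trans (mul_inv_eq_one.1 (e3 ▸ e)).symm
  · rw [conj_pow, ← map_pow, mul_pow, inv_pow, ← pow_mul, mul_comm m, pow_mul, h.pow_eq_one hτ e1, h.pow_eq_one hτ e2]
    simp
  · rw [← nregχ_apply, map_mul, map_inv, map_pow, nregχ_apply, nregχ_apply, hm, mul_inv_cancel]

theorem nr_of_nc (h2 : s ≠ 2) (hr : s ≠ r) (hN : NC s M)
    (hI : SemP.Inv Φ s ∨ NoReg Φ s ∨ (¬ s ∣ d ∧ Idx s T M ∧ Ab s M)) : ∃ x ∈ M, x ≠ 1 ∧ x ^ s = 1 ∧ NR Φ τ x := by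
  have := h.fin
  obtain ⟨⟨x, hx⟩, ⟨y, hy⟩, k1, k2, k3, k4, k5⟩ := nc_pair hs h2 hN
  replace k1 : x ^ s = 1 := congrArg Subtype.val k1
  replace k2 : y ^ s = 1 := congrArg Subtype.val k2
  replace k3 : Commute x y := congrArg Subtype.val k3
  replace k4 : x ≠ 1 := fun e => k4 (Subtype.ext e)
  replace k5 : y ∉ zpowers x := fun ⟨i, e⟩ => k5 ⟨i, Subtype.ext e⟩
  obtain hI | hI | ⟨h3, h4, h5⟩ := hI
  · obtain ⟨z, c, rfl, hc⟩ := nreg_toral h hτ hT hs hr (h.good.tw.le_fix hx) k1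
    by_cases h3 : ∃ b, Φ.chr c b = 1
    · exact ⟨_, hx, k4, k1, z, c, h3.choose, rfl, h3.choose_spec⟩
    have h4 : DD S (Psi Φ {c}) = S.H := by
      rw [DD, show Psi Φ {c} = ∅ from Set.eq_empty_of_forall_notMem fun b hb => h3 ⟨b, hb c rfl⟩, Twist.UU_empty,
        bot_sup_eq]
    obtain ⟨c', e⟩ := hτ.H_le (h4 ▸ mem_DD_of_inv h.sharp hτ hT hs hr hI hc (h.amb.mem_grp (z⁻¹ * y * z))
      (by simpa [mul_assoc] using k3.map (MulAut.conj z⁻¹)))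
    obtain rfl : y = z * τ c' * z⁻¹ := by rw [e]; group
    exact nr_of_tor h hτ hT hs hr hx hy k1 k2 k4 k5
  · exact ⟨x, hx, k4, k1, nr_of_noReg h hτ hT hs hr hI (h.good.tw.le_fix hx) k1⟩
  · obtain ⟨z, hz⟩ := h.exists_toral hs h2 hr h3 h4 hτ hT h5 (X := {x, y}) (Set.toFinite _)
      (by rintro _ (rfl | rfl); exacts [⟨hx, k1⟩, ⟨hy, k2⟩])
      (by rintro _ (rfl | rfl) _ (rfl | rfl); exacts [.refl _, k3, k3.symm, .refl _])
    obtain ⟨c, rfl⟩ := hz x (.inl rfl)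
    obtain ⟨c', rfl⟩ := hz y (.inr rfl)
    exact nr_of_tor h hτ hT hs hr hx hy k1 k2 k4 k5

omit h hτ hT

variable {K : Type*} [Group K]

theorem ft_of_hasC (h2 : s ≠ 2) (hr : s ≠ r) (h : HasC r s K) (hA : Ab s (⊤ : Subgroup K)) (hN : NC s K) : FT K s := by
  obtain ⟨A, ⟨e⟩, ⟨h1, h3⟩ | ⟨rfl, q, h1, h3⟩⟩ := h
  · obtain ⟨τ, hτ, hT⟩ := exists_tor A.alg.sharp
    exact FT.of_equiv e fun X _ => ex_in A.alg hτ hT (inn_le_up X) hs Nat.prime_two h2 (.inr (.inl rfl))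
      (nr_of_nc A.alg hτ hT hs h2 hr (hN.of_equiv e) (.inr (.inr ⟨h3, h1, ab_of_top e hA⟩)))
  · exact absurd (ab_of_top e hA) (A.alg.not_ab hr.symm h1 h3)

omit hs

variable {σ : Sym Φ B} {P : Prop}

theorem ft_char [Nontrivial κ] (h : HasM2 r K σ a d f P) (h2 : r ≠ 2) : FT K r := by
  obtain ⟨Ω, G, n, _, _, _, _, _, _, S, T, M, rep, rfl, h, ⟨e⟩, -⟩ := h
  obtain ⟨τ, hτ, hT⟩ := exists_tor h.sharp
  exact FT.of_equiv e fun X _ => (ex_in h hτ hT (inn_le_up X) Nat.prime_two Fact.out h2.symm (.inl rfl)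
    (nr_two h hτ hT Nat.prime_two h2.symm)).comm

theorem fe_of [Nontrivial κ] {k : ℕ} (h : HasM2 r K σ (fun _ => k) d f P) (ht : t.Prime) (h2 : t ≠ 2)
    (hq : t ≠ r → (r ^ k) ^ 2 ≡ 1 [MOD t]) (hI : ∀ s, s.Prime → s ≠ 2 → s ≠ t → SemP.Inv Φ s ∨ NoReg Φ s)
    (hR : Reg Φ t) (hp : t ≠ r → ¬ Ab t (⊤ : Subgroup K) ∨ (t = 3 ∧ A2D Φ σ.ρ (r ^ k)) ∨
      (¬ t ^ 2 ∣ Nat.card (Out K) ∧ ∃ w ∈ Φ.W, ∀ y b, (t : ℤ) ∣ Φ.ip y ((w * σ.ρ) b) - (r ^ k : ℕ) * Φ.ip y b)) :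
    FE K t := by
  obtain ⟨Ω, G, n, _, _, _, _, _, _, S, T, M, rep, rfl, h, ⟨e⟩, -⟩ := h
  obtain ⟨τ, hτ, hT⟩ := exists_tor h.sharp
  have := h.fin
  refine FE.of_equiv e fun X h1 s hs hst h3 => ?_
  have hc : Cd r (fun _ : κ => k) t := (eq_or_ne t r).imp_right fun h4 => .inr ⟨ht, h2, h4, k, fun _ => rfl, hq h4⟩
  by_cases h4 : s = r
  swap
  · refine ex_in h hτ hT (inn_le_up X) hs ht hst hc ?_
    by_cases h5 : s = 2
    · subst h5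
      exact nr_two h hτ hT hs h4
    · exact nr_of_nc h hτ hT hs h5 h4 (h3.resolve_left h5) ((hI s hs h5 hst).imp_right .inl)
  subst h4
  have key : ¬ Ab t M → Ex (up X) (t * s) := fun hA => by
    obtain ⟨P, hP⟩ := na_of_not_ab hA
    obtain ⟨x, hx, k1⟩ := exists_nr h hτ hT ht hst.symm h2 hR ⟨hP.le.trans h.good.tw.le_fix, hP.pg, hP.na⟩
    exact (ex_in h hτ hT (inn_le_up X) ht hs hst.symm (.inl rfl) ⟨x, hP.le hx, k1⟩).comm
  obtain h5 | ⟨rfl, h5⟩ | ⟨h5, w, hw, h6⟩ := hp hst.symm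
  · exact key fun k => h5 (top_of_ab e k)
  · exact key (h.not_ab hst (fun _ => rfl) h5)
  obtain ⟨ζ, hζ⟩ := nab_prim Ω s ht hst.symm
  obtain ⟨z, hz⟩ := h.exists_nz hw
  obtain ⟨i, j, hij⟩ := exists_pair_ne κ
  let y : κ → ℤ := Pi.single i 1
  have k1 : z * τ (fun i => ζ ^ y i) * z⁻¹ ∈ T.Fix := (h.amb.tw_eq_iff T z _).1 ((h.tw_tor hτ hT hz _ _).2 fun b => by
    rw [kk, Φ.chr_zpow_ip, Φ.chr_zpow_ip, ← zpow_natCast, ← zpow_mul, nab_zpow_iff hζ, mul_comm]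
    exact h6 y b)
  have k2 : (z * τ (fun i => ζ ^ y i) * z⁻¹) ^ t = 1 := by
    rw [conj_pow, ← map_pow, show (fun i => ζ ^ y i) ^ t = 1 from funext fun i => by
      rw [Pi.pow_apply, ← zpow_natCast, ← zpow_mul, mul_comm, zpow_mul, zpow_natCast, hζ.pow_eq_one, one_zpow]; rfl]
    simp
  have k3 : z * τ (fun i => ζ ^ y i) * z⁻¹ ∈ normalizer (M : Set G) := mem_normalizer_iff.2 fun g =>
    ⟨h.conj_mem k1, fun k => by simpa [mul_assoc] using h.conj_mem (inv_mem k1) k⟩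
  refine ex_nr h hτ hT (inn_le_up X) ht hs hst.symm k1 (fun e => hζ.ne_one ht.one_lt ?_) k2
    ⟨z, _, Φ.simple j, rfl, by simp [Φ.chr_zpow_ip, Φ.ip_simple, y, hij.symm]⟩ (β := M.normalizerMonoidHom ⟨_, k3⟩) ?_
    (fun g => by rw [h.frob_zero]; rfl) (.inl rfl)
  · rw [mul_inv_eq_one, mul_eq_left] at e
    simpa [y] using congrFun (hτ.inj h.sharp.nondeg (e.trans (map_one τ).symm)) i
  · have := Fact.mk ht
    obtain ⟨δ, hδ⟩ := cnt_sylow ht (A := up X) (E := zpowers (M.normalizerMonoidHom ⟨_, k3⟩)) (fun k => h5 (by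
      rw [index_comap_of_surjective _ (QuotientGroup.mk'_surjective _)] at k
      rw [Nat.card_congr (Orth.outCongr e).toEquiv, ← X.card_mul_index, sq]
      exact mul_dvd_mul h1 k)) (asp_zp (j := 1) (by
        rw [pow_one, ← map_pow, show (⟨_, k3⟩ : normalizer (M : Set G)) ^ t = 1 from Subtype.ext k2, map_one]))
    exact ⟨_, hδ _ (mem_zpowers _), (isConj_iff.2 ⟨δ, rfl⟩).symm⟩

end CfsgLib.Adj
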