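import Mathlib
import Cfsg.Agent.Lib.Adj.Pure
import Cfsg.Agent.Lib.NoPQ.Main
import Cfsg.Agent.Lib.NoPQ.Exc

/-!
# Field automorphisms (package FLD of plans/ADJ.md)
-/

set_option autoImplicit false
set_option linter.unusedSectionVars false

namespace CfsgLib.Adj

open Cfsg Subgroup CfsgLib.RGD CfsgLib.Twist CfsgLib.LieAll CfsgLib.Semi CfsgLib.KInv CfsgLib.SemP CfsgLib.NoPQ

theorem cnt_two {K : Type*} [Group K] [Finite K] {A E : Subgroup K} (hA : ¬ 4 ∣ A.index) (hE : IsPGroup 2 E) :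
    ∃ δ : K, ∀ e ∈ E, ∀ e' ∈ E, δ * e * δ⁻¹ ∈ A ∨ δ * e' * δ⁻¹ ∈ A ∨ δ * (e * e') * δ⁻¹ ∈ A := by
  obtain ⟨Q⟩ : Nonempty (Sylow 2 A) := inferInstance
  obtain ⟨P, hP⟩ := (Q.2.map A.subtype).exists_le_sylow
  obtain ⟨δ, hδ⟩ := asp_conj P hE
  obtain ⟨j, hj⟩ := P.2.index ((Q.1.map A.subtype).subgroupOf P)
  have h1 : 2 ^ j ∣ A.index := by
    have := relIndex_dvd_index_of_le hP
    rw [index_map_subtype, relIndex, hj] at this
    exact ((Nat.prime_two.coprime_iff_not_dvd.2 Q.not_dvd_index).pow_left j).dvd_of_dvd_mul_left this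
  refine ⟨δ, fun e he e' he' => ?_⟩
  have h2 : ∀ x : P, x ∈ (Q.1.map A.subtype).subgroupOf P → x.1 ∈ A := fun x hx => map_subtype_le _ hx
  obtain _ | _ | j := j
  · exact .inl (h2 ⟨_, hδ e he⟩ (index_eq_one.1 hj ▸ mem_top _))
  · by_contra! k
    refine k.2.2 (show δ * (e * e') * δ⁻¹ = δ * e * δ⁻¹ * (δ * e' * δ⁻¹) by group ▸
      h2 (⟨_, hδ e he⟩ * ⟨_, hδ e' he'⟩) ((mul_mem_iff_of_index_two hj).2 ?_))
    exact iff_of_false (fun x => k.1 (h2 _ x)) fun x => k.2.1 (h2 _ x)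
  · exact absurd ((pow_dvd_pow 2 (show 2 ≤ j + 1 + 1 by omega)).trans h1) hA

variable {ι κ B : Type} [Fintype κ] [DecidableEq κ] [Finite ι] {Φ : RootSys ι κ}
  {Ω : Type} [Field Ω] [IsAlgClosed Ω] {G : Type} [Group G] {S : StSys Φ Ω G} {T : Tw S B} {M : Subgroup G}
  {n : Type} [Fintype n] [DecidableEq n] {rep : G →* Matrix n n Ω} {r : ℕ} [Fact r.Prime] [CharP Ω r]
  {a : κ → ℕ} {d f : ℕ} {s t : ℕ}

theorem fld_of (h : Alg0 r a d f T M rep) (hF : Ful T.toSym d) (hs : s.Prime) {H : Subgroup (MulAut M)}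
    (hH : Inn M ≤ H) {e δ : MulAut M} (he : e ∈ H) (h1 : ∀ m : ℕ, ∃ x ∈ M, ∃ i, h.amb.Ind r ((δ * e * δ⁻¹) ^ m) x i)
    {j : ℕ} (h2 : e ^ s ^ j = 1) (h3 : e ∉ Inn M) :
    s ∣ f ∧ ∃ β w, Vis H β ∧ orderOf β = s ∧ h.amb.Ind r β 1 (f / s * w) := by
  have := Fact.mk hs
  obtain ⟨x, hx, i, e1⟩ := h1 1
  rw [pow_one] at e1
  have hx' := h.good.tw.le_fix hx
  have ex : ∃ l, f ∣ i * s ^ l := by
    obtain ⟨y, hy, e3⟩ := h.cnt_ind_pow hx' e1 (s ^ j)
    rw [conj_pow, h2, mul_one, mul_inv_cancel] at e3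
    exact ⟨j, (h.dvd_of_ind hF hy e3).1⟩
  obtain ⟨l, hl⟩ := Nat.exists_eq_succ_of_ne_zero (n := Nat.find ex) fun e2 => h3 (by
    have h4 : f ∣ i := by simpa [e2] using Nat.find_spec ex
    simpa [mul_assoc] using (innNormal M).conj_mem' (δ * e * δ⁻¹) ⟨⟨x, hx⟩, MulEquiv.ext fun g => Subtype.ext (by
      rw [e1, h.frob_of_dvd (h.good.tw.le_fix g.2) h4]; rfl)⟩ δ)
  obtain ⟨x', hx'', i', e2⟩ := h1 (s ^ l)
  obtain ⟨y, hy, e3⟩ := h.cnt_ind_pow hx' e1 (s ^ l)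
  have h8 := (h.cnt_unique hF (h.good.tw.le_fix hx'') hy e2 e3).2
  have h9 : ¬ f ∣ i' := fun e4 => Nat.find_min ex (hl ▸ l.lt_succ_self) ((h8.dvd_iff dvd_rfl).1 e4)
  have h10 : f ∣ i' * s := ((h8.mul_right s).dvd_iff dvd_rfl).2 (by
    rw [mul_assoc, ← pow_succ, ← Nat.succ_eq_add_one, ← hl]; exact Nat.find_spec ex)
  have h11 : s ∣ f := by_contra fun e4 => h9 ((hs.coprime_iff_not_dvd.2 e4).symm.dvd_of_dvd_mul_right h10)
  obtain ⟨w, rfl⟩ : f / s ∣ i' := Nat.dvd_of_mul_dvd_mul_right hs.pos (by rwa [Nat.div_mul_cancel h11])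
  let y' : M := ⟨x', hx''⟩
  have e4 : h.amb.Ind r (MulAut.conj y'⁻¹ * (δ * e * δ⁻¹) ^ s ^ l) 1 (f / s * w) := fun g => by
    rw [MulAut.mul_apply, MulAut.conj_apply, coe_mul, coe_mul, e2]
    simp [y', mul_assoc]
  have e5 : ∀ k : ℕ, h.amb.Ind r ((MulAut.conj y'⁻¹ * (δ * e * δ⁻¹) ^ s ^ l) ^ k) 1 (f / s * w * k) := fun k => by
    induction k with
    | zero => exact fun g => by simp [h.frob_zero]
    | succ k ih => simpa only [map_one, mul_one, pow_succ, mul_add] using h.ind_mul ih e4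
  refine ⟨h11, _, w, ⟨_, mul_mem (hH ((innNormal M).conj_mem' _ ⟨y'⁻¹, rfl⟩ δ)) (pow_mem he (s ^ l)),
    isConj_iff.2 ⟨δ, by rw [conj_pow]; group⟩⟩, orderOf_eq_prime (MulEquiv.ext fun g => Subtype.ext ?_)
    fun e6 => h9 (h.dvd_of_ind hF (one_mem _) (e6 ▸ e4)).1, e4⟩
  rw [e5 s g, h.frob_of_dvd (h.good.tw.le_fix g.2) h10]
  simp

theorem fixed_three (h : Alg0 r a 1 f T M rep) (hs : s.Prime) (ha : ∀ i, f ≤ 1 * a i + 1) (hf : s ∣ f) (hr : 3 ≠ r) :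
    ∃ g ∈ M, g ≠ 1 ∧ g ^ 3 = 1 ∧ ∀ w, h.amb.frob r (f / s * w) g = g := by
  obtain ⟨T₁, a₁, -, h₀, -, hσ, -⟩ := h.exists_root hs hs.not_dvd_one ha hf
  have h₁ := h₀.alg0
  have h1 : T₁.Fix ≤ T.Fix := fun g hg => ⟨hg.1, by rw [← hσ]; exact Function.iterate_fixed hg.2 s⟩
  have h2 : T₁.gen ≤ M := sup_le ((inf_le_inf_left _ h1).trans h.good.tw.U_le)
    ((inf_le_inf_left _ h1).trans h.good.tw.V_le)
  have := h.good.ne
  obtain ⟨g, k1, k2, k3⟩ := h₁.fr.exists_order_of_sq h.sharp Nat.prime_three (by norm_num) hr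
    (fun i j => by rw [show T₁.π = 1 from (pow_one _).symm.trans h₀.hπ]; rfl) fun b => by
      rw [Nat.ModEq, Nat.pow_mod, kk]
      rcases mod_three_cases (k := a₁ (nd Φ b)) Fact.out hr with e | e <;> rw [e]
  exact ⟨g, h2 k1, k2, k3, fun w => h₁.frob_of_dvd (T₁.gen_le_Fix k1) (dvd_mul_right _ w)⟩

variable {K : Type*} [Group K] [IsSimpleGroup K] {σ : Sym Φ B} {P : Prop}

theorem ft_fld (h : HasM2 r K σ a 1 f P) (ha : ∀ i, f ≤ 1 * a i + 1) {g : ℕ} (hg : ¬ 4 ∣ g)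
    (ho : Nat.card (Out K) ∣ g * f) (ht : t = r ∨ t = 3) (h2 : t ≠ 2) : FT K t := by
  obtain ⟨Ω, G, n, _, _, _, _, _, _, S, T, M, rep, rfl, h, ⟨e⟩, -⟩ := h
  have := h.fin
  have := h.good.ne
  have := e.symm.isSimpleGroup
  have hM := CoA.GenB.le_gen h.good.tw (T.orb h.good.ne.some)
  refine FT.of_equiv e fun X ⟨R₀, k1, k2⟩ => ?_
  obtain ⟨R, r1, r2, r3, -⟩ := exists_lift Nat.prime_two (QuotientGroup.mk' (Inn M)) (N := up X)
    (R₀ := R₀.map X.subtype) ((map_subtype_le _).trans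
      (map_comap_eq_self_of_surjective (QuotientGroup.mk'_surjective _) X).ge) (k1.map _) bot_le IsPGroup.of_bot
  obtain ⟨A, h1, h3⟩ := exists_sub h hM ful_one h.good.tw.le_fix fun x hx i => dich_frob h hM ful_one i hx
  obtain ⟨δ, hδ⟩ := cnt_two (A := A) (fun k => hg (k.trans (Nat.dvd_of_mul_dvd_mul_left (Nat.card_pos (α := A)) (by
    rw [A.card_mul_index, h3]
    exact (dich_card (Nat.card_congr (Orth.outCongr e).toEquiv ▸ ho)).trans (dvd_of_eq (by ring)))))) r2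
  obtain ⟨x, x1, x2, x3⟩ : ∃ x ∈ R, δ * x * δ⁻¹ ∈ A ∧ x ∉ Inn M := by
    by_contra! k
    refine k2 ((R₀.equivMapOfInjective _ X.subtype_injective).isCyclic.2 (r3 ▸ ?_))
    by_cases k3 : ∃ x ∈ R, x ∉ Inn M
    · obtain ⟨x, x1, x2⟩ := k3
      refine ⟨⟨_, mem_map_of_mem _ x1⟩, ?_⟩
      rintro ⟨_, y, hy, rfl⟩
      obtain k4 | k4 | k4 := hδ x x1 y hy
      · exact absurd (k x x1 k4) x2
      · exact ⟨0, Subtype.ext ((QuotientGroup.eq_one_iff y).2 (k y hy k4)).symm⟩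
      · exact ⟨-1, Subtype.ext ((zpow_neg_one _).trans (inv_eq_of_mul_eq_one_right
          ((QuotientGroup.eq_one_iff (x * y)).2 (k _ (mul_mem x1 hy) k4))))⟩
    · push Not at k3
      rw [(Subgroup.map_eq_bot_iff R).2 (le_of_le_of_eq k3 (QuotientGroup.ker_mk' (Inn M)).symm)]
      infer_instance
  obtain ⟨j, hj⟩ := r2 ⟨x, x1⟩
  obtain ⟨h4, β, w, h5, h6, h7⟩ := fld_of h ful_one Nat.prime_two (inn_le_up X) (r1 x1)
    (fun m => (h1 _).1 (pow_mem x2 m)) (congrArg Subtype.val hj) x3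
  have h8 : t.Prime := ht.elim (· ▸ Fact.out) (· ▸ Nat.prime_three)
  obtain ⟨u, g1, g2, g3, g4⟩ : ∃ g ∈ M, g ≠ 1 ∧ g ^ t = 1 ∧ ∀ w, h.amb.frob r (f / 2 * w) g = g := by
    by_cases h9 : t = r
    · exact exists_fixed h Nat.prime_two (by decide) ha h4 h8 (.inl h9)
    · obtain rfl := ht.resolve_left h9
      exact fixed_three h Nat.prime_two ha h4 h9
  exact ex_of_fixed (mn_center h) (inn_le_up X) Nat.prime_two h8 h2.symm h5 h6 (g := ⟨u, g1⟩)
    (fun e => g2 (congrArg Subtype.val e)) (Subtype.ext g3) (Subtype.ext ((h7 _).trans (by simpa using g4 w)))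

theorem comm_of_model (h : HasM2 r K σ a d f P) (hF : Ful σ d) {N : ℕ} (hD : Dg r σ a f N) (hN : N.Coprime 2)
    (ho : Nat.card (Out K) ∣ N * f) : ∃ D : Subgroup (Out K), commutator (Out K) ≤ D ∧ Nat.card D ∣ N := by
  obtain ⟨Ω, G, n, _, _, _, _, _, _, S, T, M, rep, rfl, h, ⟨e⟩, hl, -⟩ := h
  have := h.fin
  have := h.finite
  have := e.symm.isSimpleGroup
  have hM := CoA.GenB.le_gen h.good.tw (T.orb h.good.ne.some)
  rw [Nat.card_congr (Orth.outCongr e).toEquiv] at ho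
  obtain ⟨A, h1, h3⟩ := exists_sub h hM hF le_rfl fun x hx i => h.frob_mem hx i
  obtain rfl : A = ⊤ := by
    have c1 := (M.subgroupOf T.Fix).card_mul_index
    rw [Nat.card_congr (subgroupOfEquivOfLe h.good.tw.le_fix).toEquiv] at c1
    refine eq_top_of_le_card _ (Nat.le_of_dvd Nat.card_pos ((dich_card ho).trans ?_))
    rw [h3, ← c1, mul_comm (N * f), mul_assoc]
    exact mul_dvd_mul_left _ (mul_dvd_mul_right (hN.dvd_of_dvd_mul_left (h.dvd_relIndex hl hD)) _)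
  choose x hx i hi using fun β => (h1 β).1 (mem_top β)
  have := NeZero.of_pos h.fpos
  let ψ : MulAut M →* Multiplicative (ZMod f) := MonoidHom.mk' (fun β => .ofAdd (i β)) fun β γ => by
    rw [← ofAdd_add, ← Nat.cast_add, (ZMod.natCast_eq_natCast_iff _ _ _).2 (h.cnt_unique hF (hx _)
      (mul_mem (hx β) (h.frob_mem (hx γ) _)) (hi (β * γ)) (h.ind_mul (hi β) (hi γ))).2]
  have h4 : Inn M ≤ ψ.ker := by
    rintro _ ⟨y, rfl⟩
    exact congrArg Multiplicative.ofAdd (((ZMod.natCast_eq_natCast_iff _ _ _).2 (h.cnt_unique hF (hx _)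
      (h.good.tw.le_fix y.2) (hi _) (i' := 0) fun g => by rw [h.frob_zero]; rfl).2).trans Nat.cast_zero)
  have h5 : Function.Surjective ψ := fun k => by
    let φ : M →* M := ((h.amb.frob r k.toAdd.val).comp M.subtype).codRestrict M fun g => dich_frob h hM hF _ g.2
    let β := MulEquiv.ofBijective φ (Finite.injective_iff_bijective.1 fun g g' e => Subtype.ext
      (h.cnt_inj _ (congrArg Subtype.val e)))
    exact ⟨β, congrArg Multiplicative.ofAdd (((ZMod.natCast_eq_natCast_iff _ _ _).2 (h.cnt_unique hF (hx _)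
      (one_mem _) (hi β) (i' := k.toAdd.val) fun g => by rw [one_mul, inv_one, mul_one]; rfl).2).trans
      (ZMod.natCast_zmod_val _))⟩
  let φ := (QuotientGroup.lift _ ψ h4).comp (Orth.outCongr e).toMonoidHom
  refine ⟨φ.ker, Abelianization.commutator_subset_ker φ, Nat.dvd_of_mul_dvd_mul_right h.fpos ?_⟩
  rwa [← Nat.card_congr (Orth.outCongr e).toEquiv, ← φ.ker.card_mul_index, index_ker,
    (MonoidHom.range_eq_top (f := φ)).2 (((QuotientGroup.lift_surjective_of_surjective _ _ h5 h4)).comp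
      (Orth.outCongr e).surjective), card_top, Nat.card_congr Multiplicative.toAdd, Nat.card_zmod] at ho

end CfsgLib.Adj
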