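import Mathlib
import Cfsg.Agent.Lib.Adj.Cen
import Cfsg.Agent.Lib.Adj.Fld
import Cfsg.Agent.Lib.NoPQ.FamA

/-!
# The linear and unitary groups (package FAMA of plans/ADJ.md)
-/

set_option autoImplicit false
set_option linter.unusedSectionVars false

namespace CfsgLib.Adj

open Cfsg Subgroup CfsgLib.RGD CfsgLib.Twist CfsgLib.LieAll CfsgLib.Semi CfsgLib.KInv CfsgLib.SemP CfsgLib.NoPQ

open CfsgLib.ClSys CfsgLib.KInv.Fam Cfsg.Agent

/-- two facts on the groups of type `A` -/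
def TA (K : Type*) [Group K] (n N : ℕ) : Prop := ∀ p, p.Prime → p ≠ 2 → p ≤ n →
  p ∣ Nat.card K ∧ (p ∣ N → Ab p (⊤ : Subgroup K) → n < 4)

theorem ta_of {Γ : Type*} [Group Γ] [Finite Γ] {F : Type*} [Field F] [Fintype F] {n : ℕ}
    (ρ : Γ →* Matrix (Fin n) (Fin n) F) (inj : Function.Injective ρ) (hZ : ∀ g ∈ center Γ, ∃ a : F, ρ g = a • 1)
    {N : ℕ} (hN : N ∣ Fintype.card F - 1)
    (hd : ∀ e : Fin n → F, (∀ i, e i ^ N = 1) → ∏ i, e i = 1 → ∃ g, ρ g = Matrix.diagonal e)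
    (hc : ∀ σ : Equiv.Perm (Fin n), Equiv.Perm.sign σ = 1 → ∃ g, ρ g = σ.permMatrix F) {K : Type*} [Group K]
    (e : K ≃* Γ ⧸ center Γ) : TA K n N := fun p hp h2 hn => by
  have := Fact.mk hp
  refine ⟨?_, fun h3 H => ?_⟩
  · obtain ⟨σ, hσ⟩ := exists_prime_orderOf_dvd_card (G := Equiv.Perm (Fin n)) p (by
      rw [Fintype.card_perm, Fintype.card_fin]; exact Nat.dvd_factorial hp.pos hn)
    have σp : σ ^ p = 1 := hσ ▸ pow_orderOf_eq_one σ
    obtain ⟨l, hl⟩ := hp.odd_of_ne_two h2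
    obtain ⟨i, hi⟩ : ∃ i, σ i ≠ i := by
      by_contra! c
      rw [show σ = 1 from Equiv.ext c, orderOf_one] at hσ
      exact hp.one_lt.ne hσ
    obtain ⟨c, hc⟩ := hc σ (by
      have := congrArg Equiv.Perm.sign σp
      rwa [map_pow, map_one, hl, pow_succ, pow_mul, Int.units_sq, one_pow, one_mul] at this)
    have cp : c ^ p = 1 := inj (by
      have : ρ c = Matrix.permMatrixHom σ⁻¹ := hc.trans (by rw [Matrix.permMatrixHom_apply, inv_inv])
      rw [map_pow, this, ← map_pow, inv_pow, σp, inv_one, map_one, map_one])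
    rw [Nat.card_congr e.toEquiv, ← orderOf_eq_prime (p := p) (x := QuotientGroup.mk' (center Γ) c) (by
      rw [← map_pow, cp, map_one]) fun k => ?_]
    · exact orderOf_dvd_natCard _
    obtain ⟨a, ha⟩ := hZ c ((QuotientGroup.eq_one_iff c).1 k)
    simpa [asp_perm, hi.symm] using congrFun (congrFun (hc.symm.trans ha) i) (σ i)
  obtain ⟨η, hη⟩ := asp_root (h3.trans hN)
  obtain ⟨l, rfl⟩ := h3
  obtain ⟨P, hP, x, hx, y, hy, -, -, -, -, h⟩ := asp_main ρ inj hZ hp h2 hn (k := 1)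
    (fun e h => hd e fun i => by rw [← pow_one p, pow_mul, h, one_pow]) hc
    (η := η) (by rw [pow_one, ← hη, pow_orderOf_eq_one]) fun e => hp.one_lt.ne (by rw [← hη, e, orderOf_one])
  exact (h (ab_of_top (e.trans topEquiv.symm) H P le_top hP x hx y hy)).2

theorem noReg_A {n s : ℕ} (hs : s.Prime) (h1 : s < n) : NoReg (rootA n) s := fun y => by
  have := NeZero.of_pos hs.pos
  obtain ⟨i, j, h2, h3⟩ := Fintype.exists_ne_map_eq_of_card_lt (β := ZMod s)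
    (fun i : Fin n => ((∑ k, (if i.val ≤ k.val then 1 else 0) * y k : ℤ) : ZMod s)) (by simpa using h1)
  refine ⟨⟨(i, j), h2⟩, ((ZMod.intCast_eq_intCast_iff_dvd_sub _ _ _).1 h3.symm).trans (dvd_of_eq ?_)⟩
  simp only [RootSys.ip, rootA_rt, sub_mul, Finset.sum_sub_distrib]

theorem not_nc {O A : Type*} [Group O] [Finite O] [Group A] [IsCyclic A] (φ : O →* A) (h : ¬ 2 ∣ Nat.card φ.ker)
    (X : Subgroup O) : ¬ NC 2 X := fun ⟨R, h1, h2⟩ => by
  refine h2 (isCyclic_of_injective (φ.comp (X.subtype.comp R.subtype)) ((injective_iff_map_eq_one _).2 fun x hx => ?_))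
  obtain ⟨j, hj⟩ := h1 x
  refine orderOf_eq_one_iff.1 (Nat.eq_one_of_dvd_coprimes ((Nat.prime_two.coprime_iff_not_dvd.2 h).pow_left j)
    (orderOf_dvd_of_pow_eq_one hj) ?_)
  rw [← orderOf_coe, ← orderOf_coe]
  exact orderOf_dvd_natCard φ.ker hx

variable {K : Type*} [Group K] [Finite K] [IsSimpleGroup K] {r : ℕ} [Fact r.Prime]

theorem fb_A {n N k d f g : ℕ} {B : Type} {σ : Sym (rootA n) B} {P : Prop} (h : HasM2 r K σ (fun _ => k) d f P)
    (hn : 3 ≤ n) (h2 : 2 ∣ Nat.card K) (hT : TA K n N) (hq : (r ^ k) ^ 2 ≡ 1 [MOD N])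
    (hA : ∀ t, t.Prime → t ≠ 2 → t ∣ n → t ∣ N → (t = 3 → 9 ∣ N) → ¬ Ab t (⊤ : Subgroup K))
    (ho : Nat.card (Out K) = Nat.gcd n N * g) (hg : 3 ∣ N → 3 ∣ g → 9 ∣ N)
    (hw : ∃ w ∈ (rootA n).W, ∀ y b, (N : ℤ) ∣ (rootA n).ip y ((w * σ.ρ) b) - (r ^ k : ℕ) * (rootA n).ip y b)
    (t : ℕ) (ht : t.Prime) (h1 : t ∣ Nat.gcd n N) : t = 2 ∨ FB K t := by
  refine (eq_or_ne t 2).imp_right fun h3 => ?_
  have h4 := h1.trans (Nat.gcd_dvd_left _ _)
  have h5 := h1.trans (Nat.gcd_dvd_right _ _)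
  have h6 := Nat.le_of_dvd (by omega) h4
  have : Nontrivial (Fin (n - 1)) := Fin.nontrivial_iff_two_le.2 (by omega)
  refine ⟨(hT t ht h3 h6).1, fun u hu k1 => ?_, fe_of h ht h3 (fun _ => hq.of_dvd h5) (fun s hs _ k1 => ?_)
    (reg_A (by omega) ht) fun _ => ?_⟩
  · by_cases k2 : u = 2
    · exact k2 ▸ h2
    · exact (hT u hu k2 (by have := Nat.le_of_dvd (Nat.sub_pos_of_lt ht.one_lt) k1; omega)).1
  · by_cases k2 : s ∣ n
    · have := Nat.le_of_dvd (by omega) (((Nat.coprime_primes hs ht).2 k1).mul_dvd_of_dvd_of_dvd k2 h4)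
      exact .inr (noReg_A hs (by have := ht.one_lt; have := hs.pos; nlinarith))
    · exact .inl (famD_inv hs k2)
  by_cases k1 : t = 3 → 9 ∣ N
  · exact .inl (hA t ht h3 h4 h5 k1)
  obtain ⟨rfl, k2⟩ := Classical.not_imp.1 k1
  obtain ⟨w, hw, k3⟩ := hw
  refine .inr (.inr ⟨fun k4 => k2 ?_, w, hw, fun y b => (Int.natCast_dvd_natCast.2 h5).trans (k3 y b)⟩)
  by_contra k5
  exact k5 ((((Nat.prime_three.coprime_iff_not_dvd.2 fun e => k5 (hg h5 e)).pow_left 2).dvd_of_dvd_mul_right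
    (ho ▸ k4)).trans (Nat.gcd_dvd_right _ _))

theorem fam_psl (h2 : 2 ∣ Nat.card K) (h : IsPSLChar r K) : Fam K := by
  obtain ⟨F, _, _, _, n, hn, h4, ⟨e⟩⟩ := h
  obtain ⟨Ω, _, _, _, j₀, big⟩ := exists_big r F
  obtain ⟨k, hk, hM⟩ := hasM2_id slSys_nondeg slSys_grp big mat_sl j₀ (sl_x j₀) (good_psl hn) e
  have hk1 := famD_pos hk
  have hF : Fintype.card F = r ^ k := by rw [hk, Nat.card_eq_fintype_card]
  have ho := Nat.card_congr (Orth.outCongr e).toEquiv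
  have : Finite (Out (Matrix.ProjectiveSpecialLinearGroup (Fin n) F)) := Finite.of_equiv _ (Orth.outCongr e).toEquiv
  rcases hn.eq_or_lt with rfl | hn
  · obtain ⟨φ, h3, -, h⟩ := S2602.result hk1 hF (hF ▸ h4 rfl)
    refine .inr ⟨OD.congr (Orth.outCongr e) (od_of_prime (Abelianization.commutator_subset_ker φ) Nat.prime_two
      (h ▸ Nat.gcd_dvd_left _ _) (.inl rfl)), fun s hs k1 k2 k3 => ?_⟩
    by_cases k4 : s = r
    · rw [← φ.ker.card_mul_index, index_ker, MonoidHom.range_eq_top.2 h3, h] at ho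
      exact ft_fld hM (fun _ => by omega) (g := 2) (by decide)
        (ho ▸ mul_dvd_mul (Nat.gcd_dvd_left _ _) (by simp [famD_card])) (.inl k4) k1
    · exact ft_of_hasC hs k1 k4 (hasC_psl hs k1 k4 le_rfl (fun k => fam_not_dvd_two hs k1 k.1) e) k2 k3
  obtain ⟨φ, h3, h5, h⟩ := S2601.result hk1 hF hn
  rw [← φ.ker.card_mul_index, index_ker, MonoidHom.range_eq_top.2 h3, h,
    show Nat.card (⊤ : Subgroup (Multiplicative (ZMod k × ZMod 2))) = 2 * k by simp [famD_card, mul_comm]] at ho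
  have hT : TA K n (r ^ k - 1) := ta_of Matrix.SpecialLinearGroup.coeMonoidHom
    Matrix.SpecialLinearGroup.coeMonoidHom_injective (fun g hg => by
      obtain ⟨r, -, hr⟩ := Matrix.SpecialLinearGroup.mem_center_iff.1 hg
      exact ⟨r, by rw [Matrix.smul_one_eq_diagonal]; exact hr.symm⟩) (hF ▸ dvd_rfl)
    (fun e _ h => ⟨⟨Matrix.diagonal e, by rw [Matrix.det_diagonal, h]⟩, rfl⟩)
    (fun σ h => ⟨⟨σ.permMatrix F, by rw [Matrix.det_permutation, h]; simp⟩, rfl⟩) e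
  have h0 : 0 < r ^ k := pow_pos (Fact.out : r.Prime).pos _
  refine .inr ⟨OD.congr (Orth.outCongr e) (od_of_hom φ h5 (h ▸ fb_A hM hn h2 hT
    (((Nat.modEq_iff_dvd' h0).2 dvd_rfl).symm.pow 2) (fun t ht k1 k2 k3 k4 H => famA_psl ht k1 hn.le k2 (hF ▸ k3)
      (hF ▸ k4) (ab_of_top (e.trans topEquiv.symm) H)) ho (fun k1 k2 => ?_) ⟨1, one_mem _, fun y b => ?_⟩)),
    fun s hs k1 k2 k3 => ?_⟩
  · obtain ⟨u, rfl⟩ : 3 ∣ k := by omega
    rw [mul_comm, pow_mul] at k1 ⊢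
    exact (famA_cube _).1 k1 (pow_pos (Fact.out : r.Prime).pos _)
  · exact ⟨-(rootA n).ip y b, by rw [Nat.cast_sub h0]; change (rootA n).ip y b - _ = _; ring⟩
  have : Nontrivial (Fin (n - 1)) := Fin.nontrivial_iff_two_le.2 (by omega)
  by_cases k4 : s = r
  · exact k4 ▸ ft_char hM (k4 ▸ k1)
  by_cases k5 : s ∣ n ∧ s ∣ Fintype.card F - 1
  · obtain rfl : n = 3 := by have := (hT s hs k1 (Nat.le_of_dvd (by omega) k5.1)).2 (hF ▸ k5.2) k2; omega
    exact ft_fld hM (fun _ => by omega) (g := 6) (by decide) (by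
      rw [ho, ← mul_assoc]; exact mul_dvd_mul_right (mul_dvd_mul_right (Nat.gcd_dvd_left _ _) 2) _)
      (.inr ((Nat.prime_dvd_prime_iff_eq hs Nat.prime_three).1 k5.1)) k1
  · exact ft_of_hasC hs k1 k4 (hasC_psl hs k1 k4 hn.le k5 e) k2 k3

theorem fam_psu (h2 : 2 ∣ Nat.card K) (h : IsPSUChar r K) : Fam K := by
  obtain ⟨F, _, _, _, n, q, hF, hn, h32, ⟨e⟩⟩ := h
  obtain ⟨Ω, _, _, _, j₀, big⟩ := exists_big r F
  obtain ⟨f⟩ := nonempty_psu_equiv (n := n) hF (by omega)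
  obtain ⟨k, hk, hφ⟩ := exists_pow_of_invol r (Unitary.conj_conj hF) (Unitary.exists_not_fixed hF)
  obtain rfl : r ^ k = q := Nat.pow_left_injective two_ne_zero (hk.trans (Nat.card_eq_fintype_card.trans hF))
  have hk1 : 1 ≤ k := by have := famD_pos ((pow_mul r k 2).trans hk); omega
  have hM := hasM2_quot slSys_nondeg slSys_grp big mat_sl j₀ (sl_x j₀)
    (good_su (Unitary.conj_conj hF) (Unitary.exists_not_fixed hF) (by omega)) (fun _ => hφ) symA_A two_pos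
    (Equiv.ext Fin.rev_rev) hk (suAut_pos _) (suAut_neg _) (e.trans f)
  have ho := Nat.card_congr (Orth.outCongr e).toEquiv
  have : Finite (Out (PSU n F (r ^ k))) := Finite.of_equiv _ (Orth.outCongr e).toEquiv
  obtain ⟨φ, h3, h5, h⟩ := S2603.result hk1 rfl hF hn h32
  rw [← φ.ker.card_mul_index, index_ker, MonoidHom.range_eq_top.2 h3, h,
    show Nat.card (⊤ : Subgroup (Multiplicative (ZMod (2 * k)))) = 2 * k by simp [famD_card]] at ho
  have hT : TA K n (r ^ k + 1) := by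
    refine ta_of (Matrix.SpecialLinearGroup.coeMonoidHom.comp (SU n F (r ^ k)).subtype)
      (Matrix.SpecialLinearGroup.coeMonoidHom_injective.comp (subtype_injective _))
      (fun g hg => (Unitary.mem_center_SU_iff hF (by omega)).1 hg) (by rw [hF]; exact ⟨r ^ k - 1, Nat.sq_sub_sq _ 1⟩)
      (fun e h' h => ⟨Unitary.mkSU (Matrix.diagonal e) (by rw [Matrix.det_diagonal, h]) fun u v => ?_, rfl⟩)
      (fun σ h => ⟨Unitary.mkSU (σ.permMatrix F) (by rw [Matrix.det_permutation, h]; simp) fun u v => ?_, rfl⟩) e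
    · refine Finset.sum_congr rfl fun i _ => ?_
      rw [Matrix.mulVec_diagonal, Matrix.mulVec_diagonal, mul_pow, mul_mul_mul_comm, ← pow_succ', h', one_mul]
    · rw [Matrix.permMatrix_mulVec, Matrix.permMatrix_mulVec]
      exact Equiv.sum_comp σ fun i => u i * v i ^ r ^ k
  refine .inr ⟨OD.congr (Orth.outCongr e) (od_of_hom φ h5 (h ▸ fb_A hM hn h2 hT
    ((Nat.modEq_iff_dvd' (hF ▸ Fintype.card_pos)).2 ⟨r ^ k - 1, Nat.sq_sub_sq _ 1⟩).symm
    (fun t ht k1 k2 k3 k4 H => famA_psu ht k1 hF (by omega) k2 k3 k4 (ab_of_top (e.trans topEquiv.symm) H)) ho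
    (fun k1 k2 => ?_) ⟨permAHom n Fin.revPerm, rootA_W ▸ ⟨_, rfl⟩, fun y b => ?_⟩)), fun s hs k1 k2 k3 => ?_⟩
  · obtain ⟨u, rfl⟩ : 3 ∣ k := by omega
    rw [mul_comm, pow_mul] at k1 ⊢
    exact (famA_cube _).2 k1
  · have : (permAHom n Fin.revPerm * (symA n).ρ) b = (rootA n).neg b := by
      refine (cla_mul true _ _ b).trans ?_
      rw [show (Fin.revPerm * Fin.revPerm : Equiv.Perm (Fin n)) = 1 from Equiv.ext Fin.rev_rev]
      rfl
    exact ⟨-(rootA n).ip y b, by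
      change (rootA n).ip y ((permAHom n Fin.revPerm * (symA n).ρ) b) - _ = _
      rw [this, RootSys.ip_neg]; push_cast; ring⟩
  have : Nontrivial (Fin (n - 1)) := Fin.nontrivial_iff_two_le.2 (by omega)
  by_cases k4 : s = r
  · exact k4 ▸ ft_char hM (k4 ▸ k1)
  by_cases k5 : s ∣ n ∧ s ∣ r ^ k + 1
  · obtain rfl : n = 3 := by have := (hT s hs k1 (Nat.le_of_dvd (by omega) k5.1)).2 k5.2 k2; omega
    exact FT.of_equiv e fun X hX => absurd hX (not_nc φ (fun k => absurd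
      (k.trans (h ▸ Nat.gcd_dvd_left _ _)) (by decide)) X)
  · exact ft_of_hasC hs k1 k4 (hasC_psu hs k1 k4 hF (by omega) k5 e) k2 k3

end CfsgLib.Adj
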