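import Mathlib
import Cfsg.Agent.Lib.Adj.Cen
import Cfsg.Agent.Lib.NoPQ.FamA
import Cfsg.Agent.Lib.NoPQ.FamB
import Cfsg.Agent.Lib.ClAut.Sp4

/-!
# The symplectic and orthogonal groups (package FAMB of plans/ADJ.md)
-/

set_option autoImplicit false
set_option linter.unusedSectionVars false

namespace CfsgLib.Adj

open Cfsg Subgroup CfsgLib.RGD CfsgLib.Twist CfsgLib.LieAll CfsgLib.Semi CfsgLib.KInv CfsgLib.SemP CfsgLib.NoPQ

open CfsgLib.ClSys CfsgLib.KInv.Fam Cfsg.Agent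

variable {K : Type*} [Group K] [Finite K] {r : ℕ} [Fact r.Prime]

theorem fam_of {ι κ B : Type} [Fintype κ] [DecidableEq κ] [Finite ι] {Φ : RootSys ι κ} [Nontrivial κ] {σ : Sym Φ B}
    {a : κ → ℕ} {d f : ℕ} {P : Prop} (h : HasM2 r K σ a d f P) (hC : ∀ s, s.Prime → s ≠ 2 → s ≠ r → HasC r s K)
    (hO : OD (Out K) fun t => t = 2 ∨ FB K t) : Fam K :=
  .inr ⟨hO, fun s hs h1 h2 h3 => (eq_or_ne s r).elim (fun e => e ▸ ft_char h (e ▸ h1))
    fun e => ft_of_hasC hs h1 e (hC s hs h1 e) h2 h3⟩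

theorem fb_three (h2 : 2 ∣ Nat.card K) (h3 : 3 ∣ Nat.card K) (h : FE K 3) : FB K 3 :=
  ⟨h3, fun _ hu k => (Nat.prime_dvd_prime_iff_eq hu Nat.prime_two).1 k ▸ h2, h⟩

theorem sq_three {k : ℕ} (h : 3 ≠ r) : (r ^ k) ^ 2 ≡ 1 [MOD 3] := by
  rw [Nat.ModEq, Nat.pow_mod]
  rcases mod_three_cases (k := k) Fact.out h with e | e <;> rw [e]

theorem od_two {O X A : Type*} [Group O] [Group X] [Finite X] [CommGroup A] {Q : ℕ → Prop} (e : Nonempty (O ≃* X × A))
    (h : Nat.card X ∣ 2 ^ 3) : OD O fun t => t = 2 ∨ Q t :=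
  od_of_equiv e.some fun _ ht k =>
    .inl ((Nat.prime_dvd_prime_iff_eq ht Nat.prime_two).1 (ht.dvd_of_dvd_pow (k.trans h)))

theorem od_zmod {O : Type*} [Group O] {A : Type*} [AddCommGroup A] {Q : ℕ → Prop}
    (e : Nonempty (O ≃* Multiplicative A)) : OD O Q :=
  od_of_hom e.some.toMonoidHom (by rw [(MonoidHom.ker_eq_bot_iff _).2 e.some.injective]; infer_instance)
    fun _ ht k => absurd (by rwa [(MonoidHom.ker_eq_bot_iff _).2 e.some.injective, card_bot] at k) ht.not_dvd_one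

theorem fam_psp (h : IsPSpChar r K) : Fam K := by
  obtain ⟨F, _, _, _, n, h1, h3, ⟨e⟩⟩ := id h
  obtain ⟨Ω, _, _, _, j₀, big⟩ := exists_big r F
  obtain ⟨k, hk, hM⟩ := hasM2_id spSys_nondeg spSys_grp big (mat_sp h1) j₀ (sp_x j₀) (good_psp (by omega)) e
  have hF : Fintype.card F = r ^ k := by rw [hk, Nat.card_eq_fintype_card]
  have := famB_nt h1
  have := Finite.of_equiv _ e.toEquiv
  by_cases h4 : n = 2 ∧ r = 2
  · obtain ⟨rfl, rfl⟩ := h4
    exact .inl ((Orth.outCongr e).isCyclic.2 (ClAut.out_psp_four hF).1)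
  refine fam_of hM (fun s hs k1 k2 => hasC_psp hs k1 k2 h) (OD.congr (Orth.outCongr e) ?_)
  obtain ⟨π, h5, -⟩ := (ClAut.projAct_sp (F := F) h1).exists_proj (ClAut.pspInd_surjective h1 fun k1 k2 => h4 ⟨k1,
    (Nat.prime_dvd_prime_iff_eq Fact.out Nat.prime_two).1 ((CharP.cast_eq_zero_iff F r 2).1 k2)⟩)
  have := ClAut.isCyclic_fieldAut (F := F)
  let := IsCyclic.commGroup (α := F ≃+* F)
  have h2 : Inn (PSp n F) ≤ π.ker := h5 ▸ ClAut.inn_le_inndiagPSp
  refine od_of_prime (Abelianization.commutator_subset_ker (QuotientGroup.lift _ π h2)) Nat.prime_two ?_ (.inl rfl)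
  rw [QuotientGroup.ker_lift, ← relIndex_ker, QuotientGroup.ker_mk', h5, ClAut.relIndex_inn_sp h1]
  exact Nat.gcd_dvd_left _ _

theorem fam_odd (h : IsPOmegaOddChar r K) : Fam K := by
  obtain ⟨F, _, _, _, n, h1, h5, ⟨e⟩⟩ := id h
  obtain ⟨Ω, _, _, _, j₀, big⟩ := exists_big r F
  have h3 := OrthE.two_ne_zero_of_odd h5
  have h4 : (2 : Ω) ≠ 0 := map_ofNat j₀ 2 ▸ (map_ne_zero j₀).2 h3
  have hn : 1 ≤ n := by omega
  obtain ⟨k, hk, hM⟩ := hasM2_id (omegaOddSys_nondeg hn h3) (omegaOddSys_grp _ _) big (mat_odd hn (by omega) h4) j₀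
    (odd_x j₀ hn h3 h4) (good_odd hn h3) e
  have hF : Fintype.card F = r ^ k := by rw [hk, Nat.card_eq_fintype_card]
  have hk1 := famE_pos hk
  have := famB_nt (n := n) (by omega)
  exact fam_of hM (fun s hs k1 k2 => hasC_odd hs k1 k2 h) (OD.congr (Orth.outCongr e) (od_zmod (S2604.result hk1 hF
    (by rintro rfl; exact absurd ((Nat.odd_pow_iff (by omega)).1 (hF ▸ h5)) (by decide)) h1)))

theorem fam_plus (h2 : 2 ∣ Nat.card K) (h : IsPOmegaPlusChar r K) : Fam K := by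
  obtain ⟨F, _, _, _, n, h1, ⟨e⟩⟩ := id h
  obtain ⟨Ω, _, _, _, j₀, big⟩ := exists_big r F
  have hn : 2 ≤ n := by omega
  obtain ⟨k, hk, hM⟩ := hasM2_id (omegaPlusSys_nondeg hn (by omega)) (omegaPlusSys_grp _ _) big
    (mat_plus hn (by omega)) j₀ (plus_x j₀ hn _ _) (good_plus hn _ (by omega)) e
  have hF : Fintype.card F = r ^ k := by rw [hk, Nat.card_eq_fintype_card]
  have hk1 := famE_pos hk
  have := famB_nt hn
  have hI : ∀ s, s.Prime → s ≠ 2 → SemP.Inv (rootD hn) s := fun s hs k1 =>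
    inv_of_pow (fam_cop hs k1) fun _ _ _ => ker_D hn (by omega)
  have h3 : n = 4 → ∀ t, t.Prime → t ∣ 2 ^ 3 * 3 → t = 2 ∨ FB K t := by
    rintro rfl t ht k1
    refine (ht.dvd_mul.1 k1).imp (fun k2 => (Nat.prime_dvd_prime_iff_eq ht Nat.prime_two).1 (ht.dvd_of_dvd_pow k2))
      fun k2 => (Nat.prime_dvd_prime_iff_eq ht Nat.prime_three).1 k2 ▸ fb_three h2
        (Nat.card_congr e.toEquiv ▸ famE_three) (fe_of hM Nat.prime_three (by decide) sq_three
          (fun s hs k3 _ => .inl (hI s hs k3)) (.inl (hI 3 Nat.prime_three (by decide)))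
          fun k3 => .inr (.inl ⟨rfl, a2d_rootD hn (mod_three_cases Fact.out k3)⟩))
  refine fam_of hM (fun s hs k1 k2 => hasC_plus hs k1 k2 h) (OD.congr (Orth.outCongr e) ?_)
  by_cases hr2 : r = 2
  · subst hr2
    have := S2607.result hk1 hF h1
    split_ifs at this with h4
    · exact od_of_equiv this.some fun t ht k1 => h3 h4 t ht (k1.trans (by simp [Fintype.card_perm, Nat.factorial]))
    · exact od_zmod this
  have := S2608.result hk1 hF hr2 h1
  split_ifs at this with h4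
  · exact od_of_equiv this.some fun t ht k1 => h3 h4 t ht (k1.trans (by simp [Fintype.card_perm, Nat.factorial]))
  · exact od_zmod this
  · exact od_two this (by rw [DihedralGroup.nat_card]; norm_num)

theorem fam_minus (h : IsPOmegaMinusChar r K) : Fam K := by
  obtain ⟨F, _, _, _, m, a, b, hm, hab, ⟨e₀⟩⟩ := id h
  obtain ⟨E, _, _, j, φ, θ, k1, k2, k3, hφ, hj, hs⟩ := exists_quad hab
  obtain ⟨n, rfl⟩ : ∃ n, m = n + 1 := ⟨m - 1, by omega⟩
  have e : K ≃* POmega F (quadFormMinus n F a b) := e₀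
  have hn : 2 ≤ n + 1 := by omega
  have h0 := good_om hn (by omega) k1 k2 k3 hφ hj hs ((OrthE.hyp_qMinus a b ⟨0, by omega⟩).E_eq_commutator_of_five
    (OrthE.nondeg_qMinus n hab) (by simp; omega)) (by omega)
  obtain ⟨f⟩ := nonempty_quot_equiv (omHom_injective _ _ _) h0
  have := charP_of_injective_ringHom j.injective r
  obtain ⟨Ω, _, _, _, j₀, big⟩ := exists_big r E
  obtain ⟨k, hk, hφ'⟩ := exists_pow_of_invol r hφ ⟨θ, k3.symm⟩
  obtain ⟨l, -, hF⟩ := FiniteField.card F r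
  by_cases h2 : r = 2
  · subst h2
    exact .inl ((Orth.outCongr e₀).isCyclic.2 (S2605.result l.pos hF hm a b hab).1)
  have := famB_nt hn
  refine fam_of (hasM2_quot (omegaPlusSys_nondeg hn _) (omegaPlusSys_grp _ _) big (mat_plus hn (by omega)) j₀
    (plus_x j₀ hn _ _) h0 (fun _ => hφ') (symD_A hn) two_pos (Equiv.ext piD_piD) hk (omAut_pos hn _ _)
    (omAut_neg hn _ _) (e.trans f)) (fun s hs k1 k2 => hasC_minus hs k1 k2 h) (OD.congr (Orth.outCongr e₀) ?_)
  have := S2606.result l.pos hF h2 hm a b hab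
  split_ifs at this
  · exact od_two this (by rw [DihedralGroup.nat_card]; norm_num)
  · exact od_zmod this

end CfsgLib.Adj
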