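import Mathlib
import Cfsg.Agent.Lib.Adj.FamA
import Cfsg.Agent.Lib.Adj.FamB
import Cfsg.Agent.Lib.NoPQ.FamC
import Cfsg.Agent.Lib.KRow.OutExc
import Cfsg.Agent.Lib.LieAll.Small

/-!
# The exceptional groups (package FAMC of plans/ADJ.md)
-/

set_option autoImplicit false
set_option linter.unusedSectionVars false

namespace CfsgLib.Adj

section Out

open Cfsg Subgroup Cfsg.Lie CfsgLib.RGD CfsgLib.Twist CfsgLib.Chev CfsgLib.Weyl CfsgLib.Stein CfsgLib.ChevAut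

variable {F : Type*} [Field F]

theorem comm_chev [Fintype F] {D : ChevalleyDatum} [Good D]
    (hD : D ∈ [chevG2, chevB2, chevD4, chevF4, chevE6, chevE7, chevE8]) (h : RtOK D) (h0 : 0 < D.rank) {d : ℕ}
    (hd : d * Nat.card (D.diagonalSubgroup F) = (Fintype.card F - 1) ^ D.rank)
    (h2 : Nat.card (piHom F h).range ∣ 2) : 
    ∃ N : Subgroup (Out (D.group F)), commutator (Out (D.group F)) ≤ N ∧ Nat.card N = d := by
  obtain ⟨L, hs⟩ := exists_symOK hD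
  obtain ⟨p, hc, f, hp, hF⟩ := FiniteField.card' F
  have := Fact.mk hp
  have := isCyclic_ringAut (F := F)
  obtain ⟨τ, hτ⟩ := isCyclic_iff_exists_zpowers_eq_top.1 this
  have h4 := index_map_ker_piHom (F := F) h
  have h7 := card_out_eq h hs h0 p f hF hd
  rw [← diag_sup_field h hs] at h4
  have := normal_diag (F := F) h
  set mk := QuotientGroup.mk' (Inn (D.group F))
  have key : ∀ c σ, mk (diagHom F h c * fieldHom D F σ) = 1 → σ = 1 := fun c σ e => by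
    obtain ⟨g, hg⟩ := (QuotientGroup.eq_one_iff _).1 e
    have h1 : Par (MulAut.conj g) _ _ _ := hg ▸ par_diag_mul_field h c σ
    obtain ⟨l, -, hl⟩ := (isTw_group h).sharp.acts_H _ (mem_H_of_conj_mem_A0 (isTw_group h) (stSys_nondeg h)
      (full_group h) (h1.mem_AA h))
    have h3 : ∀ t, (c ⟨0, h0⟩ : F) * σ t = l ⟨_, simple_lt h0⟩ * t := fun t => xG_inj (simple_lt h0)
      ((h1 ⟨0, h0⟩ t).1.symm.trans (Subtype.ext (hl ⟨_, simple_lt h0⟩ t)))
    refine RingEquiv.ext fun t => mul_left_cancel₀ (c ⟨0, h0⟩).ne_zero ?_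
    simpa using (h3 t).trans (congrArg (· * t) ((h3 1).trans (mul_one _)).symm)
  have h3 : (fieldHom D F).range.map mk = zpowers (mk (fieldHom D F τ)) := by
    rw [MonoidHom.range_eq_map, ← hτ, MonoidHom.map_zpowers, MonoidHom.map_zpowers]
  refine ⟨_, KRow.comm_le_of_central (fun x => ?_) (h3 ▸ h4 ▸ h2), ?_⟩
  · obtain ⟨θ, rfl⟩ : ∃ θ, mk θ = x := QuotientGroup.mk'_surjective _ x
    obtain ⟨y, a, g, b, ha, hg, hb, rfl⟩ := exists_decomposition h hs θ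
    obtain ⟨σ, rfl⟩ := isFieldAut_iff'.1 hb
    have k1 : mk a ∈ (diagHom F h).range.map mk :=
      mem_map_of_mem _ (closure_isDiagonalAut (F := F) h ▸ subset_closure ha)
    have k2 : Commute (g * groupEquiv D σ) (fieldHom D F τ) := Commute.mul_left
      (MulEquiv.ext fun z => (Cfsg.Agent.S2160.result D hD _ g (isFieldAut_iff'.2 ⟨τ, rfl⟩) hg z).symm)
      (Commute.map (mul_comm' σ τ) (fieldHom D F))
    rw [mul_assoc (MulAut.conj y), mul_assoc (MulAut.conj y), map_mul,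
      show mk (MulAut.conj y) = 1 from (QuotientGroup.eq_one_iff _).2 ⟨y, rfl⟩,
      one_mul, mul_assoc a, map_mul, mul_assoc (mk a), (k2.map mk).eq]
    convert mul_mem k1 (this.conj_mem _ (inv_mem k1) (mk (fieldHom D F τ))) using 1
    group
  have h5 : (diagHom F h).range.map mk ⊓ (fieldHom D F).range.map mk = ⊥ := eq_bot_iff.2 (by
    rintro _ ⟨⟨_, ⟨c, rfl⟩, e⟩, _, ⟨σ, rfl⟩, rfl⟩
    rw [key c⁻¹ σ (by rw [map_mul, map_inv, map_inv, e, inv_mul_cancel])]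
    simp)
  have h6 : Nat.card ((fieldHom D F).range.map mk) = f := by
    rw [MonoidHom.map_range, ← card_ringAut p f hF]
    exact Nat.card_congr (MonoidHom.ofInjective ((injective_iff_map_eq_one _).2 fun σ e =>
      key 1 σ (by rwa [map_one, one_mul]))).toEquiv.symm
  rw [← card_mul_index, h4, Nat.mul_left_inj Nat.card_pos.ne', ← relIndex_bot_left,
    ← relIndex_mul_relIndex ⊥ _ _ bot_le le_sup_left, relIndex_bot_left, relIndex_sup_left, ← inf_relIndex_right, h5,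
    relIndex_bot_left, h6, Nat.mul_left_inj f.ne_zero] at h7
  exact h7

theorem cyclic_tw {ι κ B : Type} [Fintype κ] [DecidableEq κ] {Φ : RootSys ι κ} {G : Type*} [Group G] {S : StSys Φ F G}
    {T : Tw S B} {M : Subgroup G} [Finite ι] [Finite F] [Finite M] (hM : LieAll.Good T M)
    (std : ∀ c, T.FixChar c → ∀ τ, ∃ α : MulAut M, Std T α c τ) {i : κ} {X : F → G} (hX : Blk T M i (fun _ => True) X)
    (hd : Nat.card (Out M) = Nat.card (F ≃+* F)) : IsCyclic (Out M) := by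
  have := isCyclic_ringAut (F := F)
  obtain ⟨τ, hτ⟩ := isCyclic_iff_exists_zpowers_eq_top.1 this
  obtain ⟨α, h1, h2⟩ := std 1 (fun j => by simp) τ
  have hXm : ∀ t, X t ∈ S.UU (posJ Φ (T.J (T.orb i))) ⊓ T.Fix := fun t => (hX.mem _).mpr ⟨t, trivial, rfl⟩
  have k : ∀ m : ℕ, Perms T (α ^ m) id ∧ ∀ v : M, (v : G) ∈ S.UU (posJ Φ (T.J (T.orb i))) →
      S.scoef i ((α ^ m) v) = (τ ^ m) (S.scoef i v) := fun m => by
    induction m with
    | zero => exact ⟨Perms.one T M, fun _ _ => rfl⟩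
    | succ m ih => exact ⟨pow_succ' α m ▸ h1.mul ih.1, fun v hv => by
        rw [pow_succ', pow_succ', MulAut.mul_apply, h2 _ _ (UU_posJ_le_U S _ (ih.1.apply_mem hM.tw hv).1), ih.2 v hv]
        simp⟩
  obtain ⟨g, hg⟩ := (QuotientGroup.eq_one_iff _).1 ((map_pow (QuotientGroup.mk' (Inn M)) α _).trans
    (pow_orderOf_eq_one _))
  obtain ⟨l, -, hl⟩ := hM.tw.sharp.acts_H _ (mem_H_of_conj_mem_A0 hM.tw hM.tw.nondeg hM.full' (g := g)
    ⟨1, hg ▸ (k _).1⟩)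
  have h4 : ∀ t, (τ ^ orderOf (QuotientGroup.mk' (Inn M) α)) t = l (Φ.simple i) * t := fun t => by
    rw [← hX.coef t, ← (k _).2 ⟨X t, hM.tw.posJ_le _ (hXm t)⟩ (hXm t).1, ← hg]
    exact hM.tw.nondeg.scoef_conj i hl (UU_posJ_le_U S _ (hXm t).1)
  refine isCyclic_of_orderOf_eq_card (QuotientGroup.mk' _ α) (Nat.dvd_antisymm (orderOf_dvd_natCard _) ?_)
  rw [hd, ← card_top (G := RingAut F), ← hτ, Nat.card_zpowers]
  exact orderOf_dvd_of_pow_eq_one (RingEquiv.ext fun t => by simpa using (h4 t).trans (congrArg (· * t)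
    ((mul_one _).symm.trans (h4 1).symm)))

theorem cyclic_twF4 [Fintype F] {m : ℕ} (hm : 1 ≤ m) (hK : Fintype.card F = 2 ^ (2 * m + 1)) :
    IsCyclic (Out (twistedF4 F (2 ^ m))) := by
  obtain ⟨_, σ, he, hσ⟩ := exists_theta hK
  exact cyclic_tw (LieAll.good_F4 he hσ) (exists_std_chev _ (eq_FixF4 he hσ) fun i =>
    ⟨2 ^ m * expF4 (chevF4.simple i), fun t => (fF4_apply σ i t).trans (by rw [he, pow_mul])⟩)
    (blk_pair (T := twF4 σ hσ) piF4.2.2.2 piF4.1 orthF4 (twF4_f03 σ hσ) (isTwF4 he hσ).sharp posJF4_0')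
    (card_out_twF4 he hσ (hK ▸ le_trans (by norm_num) (Nat.pow_le_pow_right two_pos (show 2 ≤ 2 * m + 1 by omega))))

theorem cyclic_twD4 [Fintype F] {q : ℕ} (hq : IsPrimePow q) (hK : Fintype.card F = q ^ 3) :
    IsCyclic (Out (twistedD4 F q)) := by
  obtain ⟨φ, hφ⟩ := KRow.exists_frob hq hK
  have h3 := frob3 hφ hK
  exact cyclic_tw (LieAll.good_D4 hφ h3) (exists_std_chev _ (eq_FixD4 hφ h3) fun _ => ⟨q, hφ⟩)
    (blk_triple (T := twD4 φ) piD4.1 piD4.2.2.1 piD4.2.2.2 orthD4_02 orthD4_03 orthD4_23 h3 (isTwD4 hφ h3).sharp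
      posJD4_1') (card_out_twD4 hφ hK)

end Out

open Cfsg Subgroup CfsgLib.RGD CfsgLib.Twist CfsgLib.LieAll CfsgLib.Semi CfsgLib.KInv CfsgLib.SemP CfsgLib.NoPQ

variable {K : Type*} [Group K] [Finite K] [IsSimpleGroup K] {r : ℕ} [Fact r.Prime]

theorem fe_E6 {B : Type} {σ : Sym (Weyl.rootSys Weyl.rtOKE6) B} {k d f : ℕ} {P : Prop}
    (h : HasM2 r K σ (fun _ => k) d f P)
    (hA : ∀ q, q % 3 = 1 ∨ q % 3 = 2 → A2D (Weyl.rootSys Weyl.rtOKE6) σ.ρ q) : FE K 3 :=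
  have : Nontrivial (Fin Lie.chevE6.rank) := Fin.nontrivial_iff_two_le.2 (by decide)
  fe_of h Nat.prime_three (by decide) sq_three
    (fun _ hs _ k => .inl (inv_of_pow ((Nat.coprime_primes Nat.prime_three hs).2 k.symm) pow_E6))
    (reg_E6 Nat.prime_three) fun k => .inr (.inl ⟨rfl, hA _ (mod_three_cases Fact.out k)⟩)

theorem three_dvd {ι κ B : Type} [Fintype κ] [DecidableEq κ] [Finite ι] {Φ : RootSys ι κ} {σ : Sym Φ B} {k d f : ℕ}
    {P : Prop} (h : HasM2 r K σ (fun _ => k) d f P) (hA : ∀ q, q % 3 = 1 ∨ q % 3 = 2 → A2D Φ σ.ρ q) :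
    3 ∣ Nat.card K := by
  obtain ⟨Ω, G, n, _, _, _, _, _, _, S, T, M, rep, rfl, h, ⟨e⟩, -⟩ := h
  have := h.fin
  have := h.good.ne
  rw [Nat.card_congr e.toEquiv, ← op_iff_dvd Nat.prime_three]
  by_cases h3 : 3 = r
  · exact h3 ▸ op_char h.good.tw Fact.out
  · obtain ⟨P, hP⟩ := na_of_not_ab (h.not_ab (Ne.symm h3) (fun _ => rfl) (hA _ (mod_three_cases Fact.out h3)))
    exact (hP.op Nat.prime_three).mono hP.le

theorem fam_chev (h2 : 2 ∣ Nat.card K) (h : IsExceptionalChevChar r K) : Fam K := by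
  obtain ⟨F, _, _, _, h0⟩ := id h
  have key : ∀ {D : Lie.ChevalleyDatum} [Chev.Good D] (h1 : Weyl.RtOK D), ConnChk D → Nonempty (K ≃* D.group F) →
      D ∈ [Lie.chevG2, Lie.chevB2, Lie.chevD4, Lie.chevF4, Lie.chevE6, Lie.chevE7, Lie.chevE8] → 1 < D.rank →
      ∀ {d : ℕ}, d * Nat.card (D.diagonalSubgroup F) = (Fintype.card F - 1) ^ D.rank →
      Nat.card (ChevAut.piHom F h1).range ∣ 2 →
      (d ∣ 2 ∨ d ∣ 3 ∧ ∀ k, HasM2 r K (ChevAut.idTw (Chev.stSys h1 F)).toSym (fun _ => k) 1 (1 * k) True → FB K 3) →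
      Fam K := fun {D} _ h1 hc e hD h0 d hd hπ hA => by
    obtain ⟨k, hk, hM⟩ := hasM2_chev_const (r := r) h1 (good_chev (K := F) h1 hc) one_pos (pow_one _).symm
      (fun _ t => (FiniteField.pow_card t).symm) (fun _ _ => rfl) (pow_one _)
      (fun Ω _ φ => ⟨Stein.groupMap D φ, fun _ _ => ⟨Stein.groupMap_xG .., Stein.groupMap_xG ..⟩⟩) e
    have : Nontrivial (Fin D.rank) := Fin.nontrivial_iff_two_le.2 h0
    have := Finite.of_equiv _ e.some.toEquiv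
    obtain ⟨N, k1, k2⟩ := comm_chev hD h1 (by omega) hd hπ
    exact fam_of hM (fun s hs k3 k4 => hasC_chev hs k3 k4 h) (OD.congr (Orth.outCongr e.some) (hA.elim
      (fun k3 => od_of_prime k1 Nat.prime_two (k2 ▸ k3) (.inl rfl))
      fun k3 => od_of_prime k1 Nat.prime_three (k2 ▸ k3.1) (.inr (k3.2 k hM))))
  obtain ⟨-, e⟩ | e | e | e | e := h0
  · exact key Weyl.rtOKG2 connChkG2 e (by simp) (by decide) ((one_mul _).trans (Chev.card_diagonalSubgroup_G2 F))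
      (by rw [ChevAut.card_range_G2 _ r]; split_ifs <;> simp) (.inl (one_dvd _))
  · exact key Weyl.rtOKF4 connChkF4 e (by simp) (by decide) ((one_mul _).trans (Chev.card_diagonalSubgroup_F4 F))
      (by rw [ChevAut.card_range_F4 _ r]; split_ifs <;> simp) (.inl (one_dvd _))
  · exact key Weyl.rtOKE6 connChkE6 e (by simp) (by decide) (Chev.card_diagonalSubgroup_E6 F)
      (ChevAut.card_range_E6 _).dvd (.inr ⟨Nat.gcd_dvd_left _ _, fun k hM => fb_three h2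
        (three_dvd hM fun _ hq => (a2d_E6 hq).1) (fe_E6 hM fun _ hq => (a2d_E6 hq).1)⟩)
  · exact key Weyl.rtOKE7 connChkE7 e (by simp) (by decide) (Chev.card_diagonalSubgroup_E7 F)
      (by rw [ChevAut.card_range_E7]; simp) (.inl (Nat.gcd_dvd_left _ _))
  · exact key Weyl.rtOKE8 connChkE8 e (by simp) (by decide) ((one_mul _).trans (Chev.card_diagonalSubgroup_E8 F))
      (by rw [ChevAut.card_range_E8]; simp) (.inl (one_dvd _))

theorem fam_twE6 (h2 : 2 ∣ Nat.card K) {F : Type} [Field F] [Fintype F] [CharP F r] {q : ℕ} (hq : IsPrimePow q)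
    (hF : Fintype.card F = q ^ 2) (e : K ≃* Lie.twistedE6 F q) : Fam K := by
  obtain ⟨φ, hφ⟩ := Twist.exists_frob hq hF
  have hπ : symE6.π ^ 2 = 1 := by decide +kernel
  obtain ⟨k, rfl, hM⟩ := hasM2_chev_const (r := r) _ (good_E6 hφ (frob2 hφ hF)) two_pos hF (fun _ => hφ)
    (show ∀ i j, (Weyl.rootSys Weyl.rtOKE6).A (symE6.π i) (symE6.π j) = _ by decide +kernel)
    hπ (fun Ω _ ψ => ⟨endE6 ψ, fun i t => ⟨by
      rw [endE6_xG ψ (Chev.simple_lt i.2), (rhoE6_simple i).1, (rhoE6_simple i).2.1, Int.cast_one, one_mul]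
      rfl, by
      rw [endE6_xG ψ (Chev.neg_lt (Chev.simple_lt i.2)), (rhoE6_simple i).2.2.1, (rhoE6_simple i).2.2.2,
        Int.cast_one, one_mul]
      rfl⟩⟩) ⟨e⟩
  have hN : ((Nat.gcd 3 (r ^ k + 1) : ℕ) : ℤ) ∣ (r : ℤ) ^ k + 1 := by
    simpa using Int.natCast_dvd_natCast.2 (Nat.gcd_dvd_right 3 (r ^ k + 1))
  have hN3 : ((Nat.gcd 3 (r ^ k + 1) : ℕ) : ℤ) ∣ 3 := Int.natCast_dvd_natCast.2 (Nat.gcd_dvd_left _ _)
  have : Nontrivial (Fin Lie.chevE6.rank) := Fin.nontrivial_iff_two_le.2 (by decide)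
  refine fam_of hM (fun s hs k1 k2 => hasC_tw hs k1 k2 ⟨F, _, _, ‹_›, _, hq, .inl ⟨hF, ⟨e⟩⟩⟩) ((comm_of_model hM
    (ful_two (i := ndE6 0) (show symE6.π (ndE6 0) ≠ ndE6 0 by decide +kernel)) (N := Nat.gcd 3 (r ^ k + 1))
    (dg_of (hN.trans ⟨(r : ℤ) ^ k - 1, by ring⟩) (show Fin 6 → ℤ from ![1, 0, 0, 0, 0, (r : ℤ) ^ k]) famF_l ?_
      (famF_hl (Nat.gcd_dvd_left _ _)) (.inr ?_)) (Nat.Coprime.coprime_dvd_left (Nat.gcd_dvd_left _ _) (by decide))
    ?_).elim fun N h => od_of_prime h.1 Nat.prime_three (h.2.trans (Nat.gcd_dvd_left _ _)) (.inr (fb_three h2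
      (three_dvd hM fun _ hq => (a2d_E6 hq).2) (fe_E6 hM fun _ hq => (a2d_E6 hq).2))))
  · obtain ⟨e0, e1, e2, e3, e4, e5⟩ := piE6
    refine forall_ndE6.2 ⟨?_, ?_, ?_, ?_, ?_, ?_⟩
    · exact ⟨0, by change (show Fin 6 → ℤ from _) (symE6.π (ndE6 0)) - _ = _; rw [e0]; simp [ndE6]⟩
    · exact ⟨0, by change (show Fin 6 → ℤ from _) (symE6.π (ndE6 1)) - _ = _; rw [e1]; simp [ndE6]⟩
    · exact ⟨0, by change (show Fin 6 → ℤ from _) (symE6.π (ndE6 2)) - _ = _; rw [e2]; simp [ndE6]⟩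
    · exact ⟨0, by change (show Fin 6 → ℤ from _) (symE6.π (ndE6 3)) - _ = _; rw [e3]; simp [ndE6]⟩
    · exact ⟨0, by change (show Fin 6 → ℤ from _) (symE6.π (ndE6 4)) - _ = _; rw [e4]; simp [ndE6]⟩
    · exact ⟨-1, by change (show Fin 6 → ℤ from _) (symE6.π (ndE6 5)) - _ = _; rw [e5]; simp [ndE6]; ring⟩
  · have : ∑ j : Fin 6, ![1, 0, 0, 0, 0, (r : ℤ) ^ k] j * ![1, 0, 2, 0, 1, 2] j - 2 = ((r : ℤ) ^ k + 1) * 2 - 3 := by
      simp [Fin.sum_univ_succ]; ring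
    exact (dvd_sub (hN.mul_right 2) hN3).trans (dvd_of_eq this.symm)
  · rw [Nat.card_congr (Orth.outCongr e).toEquiv, ChevAut.card_out_twE6 hφ hF,
      ChevAut.card_ringAut r (2 * k) (by rw [hF, ← pow_mul, mul_comm])]

theorem fam_lie (h2 : 2 ∣ Nat.card K) (h : IsLieTypeChar r K) : Fam K := by
  obtain h | h | h | h | h | h | h | ⟨F, _, _, _, q, hq, ⟨hF, ⟨e⟩⟩ | ⟨hF, ⟨e⟩⟩⟩ | ⟨rfl, F, _, _, m, hm, hF, ⟨e⟩⟩ |
    ⟨rfl, F, _, _, m, hm, hF, ⟨e⟩⟩ | ⟨rfl, F, _, _, m, hm, hF, ⟨e⟩⟩ := h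
  exacts [fam_psl h2 h, fam_psp h, fam_psu h2 h, fam_odd h, fam_plus h2 h, fam_minus h, fam_chev h2 h,
    fam_twE6 h2 hq hF e, .inl ((Orth.outCongr e).isCyclic.2 (cyclic_twD4 hq hF)),
    .inl ((Orth.outCongr e).isCyclic.2 (KRow.cyclic_out_sz hm hF)),
    .inl ((Orth.outCongr e).isCyclic.2 (cyclic_twF4 hm hF)),
    .inl ((Orth.outCongr e).isCyclic.2 (KRow.cyclic_out_ree hm hF))]

end CfsgLib.Adj
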