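import Mathlib
import Cfsg.Agent.Lib.Adj.Pure
import Cfsg.Agent.Lib.SemP.Main

/-!
# The reduction to the data of the families (package MAIN of plans/ADJ.md)
-/

set_option autoImplicit false

namespace CfsgLib.Adj

open Cfsg Subgroup CfsgLib.SemP CfsgLib.NoPQ

variable {K : Type*} [Group K] [Finite K] {r s : ℕ}

theorem map_up (X : Subgroup (Out K)) : (up X).map (QuotientGroup.mk' (Inn K)) = X :=
  map_comap_eq_self_of_surjective (QuotientGroup.mk'_surjective _) X

theorem frattini (hZ : center K = ⊥) (hs : s.Prime) (h : s ∣ Nat.card K) (X : Subgroup (Out K)) :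
    ∃ P N : Subgroup (MulAut K), P ≤ up X ∧ N ≤ up X ∧ IsPGroup s P ∧ P ≠ ⊥ ∧ N ≤ normalizer (P : Set (MulAut K)) ∧
      N.map (QuotientGroup.mk' (Inn K)) = X ∧ (¬ IsCyclic P → NC s K) ∧
      ((∀ a ∈ P, ∀ b ∈ P, Commute a b) → Ab s (⊤ : Subgroup K)) := by
  have := Fact.mk hs
  obtain ⟨P⟩ : Nonempty (Sylow s (Inn K)) := inferInstance
  let e : K ≃* Inn K := MonoidHom.ofInjective (pure_conj_inj hZ)
  refine ⟨P.1.map (Inn K).subtype, normalizer (P.1.map (Inn K).subtype : Set (MulAut K)) ⊓ up X,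
    (map_subtype_le _).trans (inn_le_up X), inf_le_right, P.2.map _, fun k => ?_, inf_le_left,
    le_antisymm ((map_mono inf_le_right).trans (map_up X).le) fun x hx => ?_,
    fun k => NC.of_equiv ⟨P, P.2, fun k' => k (isCyclic_map k' _)⟩ e.symm, fun k => top_of_ab e (Ab.of_top
      (ab_of_sylow P fun a ha b hb => Subtype.ext (k _ (mem_map_of_mem _ ha) _ (mem_map_of_mem _ hb)).eq))⟩
  · exact P.ne_bot_of_dvd_card (Nat.card_congr e.toEquiv ▸ h)
      ((map_eq_bot_iff_of_injective _ (Inn K).subtype_injective).1 k)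
  · obtain ⟨β, rfl⟩ := QuotientGroup.mk'_surjective _ x
    obtain ⟨γ, h1, i, h2, rfl⟩ := mem_sup_of_normal_right.1 (P.normalizer_sup_eq_top ▸ mem_top β)
    have h3 : QuotientGroup.mk' (Inn K) (γ * i) = QuotientGroup.mk' (Inn K) γ := by
      rw [map_mul, QuotientGroup.mk'_apply (Inn K) i, (QuotientGroup.eq_one_iff i).2 h2, mul_one]
    exact ⟨γ, ⟨h1, show _ ∈ X from h3 ▸ hx⟩, h3.symm⟩

theorem ex_up {X : Subgroup (Out K)} {n : ℕ} (h : Ex X n) : Ex (up X) n := ex_of_map _ ((map_up X).symm ▸ h)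

theorem adj_of_fam (hZ : center K = ⊥) (h2 : 2 ∣ Nat.card K) (h : Fam K) : Adj K := by
  intro X hX
  obtain ⟨hO, hT⟩ := h.resolve_left fun _ => hX inferInstance
  have hQ : ∀ s, ¬ s ∣ Nat.card K → ¬ (s = 2 ∨ FB K s) := fun s h k => h (k.elim (· ▸ h2) (·.1))
  have key : ∀ r, r.Prime → NC r X → (r = 2 ∨ ¬ NC 2 X) → ∃ r, r.Prime ∧ r ∣ Nat.card X ∧
      (NC r X ∨ r ≠ 2 ∧ r ∣ Nat.card K) ∧ ∀ s, s.Prime → s ≠ r → s ∣ Nat.card K ∨ s ∣ Nat.card X →
        Ex (up X) (r * s) := fun r hr hN h3 => by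
    have := Fact.mk hr
    obtain ⟨R₀, k1, k2⟩ := id hN
    refine ⟨r, hr, ?_, .inl hN, fun s hs hsr h4 => ?_⟩
    · obtain ⟨_ | j, hj⟩ := k1.exists_card_eq
      · exact absurd (isCyclic_of_card_dvd_prime (p := r) (hj ▸ one_dvd _)) k2
      · exact (hj ▸ dvd_pow_self r j.succ_ne_zero).trans (card_subgroup_dvd_card R₀)
    by_cases h5 : s ∣ Nat.card K
    swap
    · exact ex_up (ex_nc hO hr hs hsr hN (h4.resolve_left h5) (hQ s h5))
    obtain ⟨P, N, p1, p2, p3, p4, p5, p6, p7, p8⟩ := frattini hZ hs h5 X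
    obtain ⟨R, r1, r2, r3, -⟩ := exists_lift hr (QuotientGroup.mk' (Inn K)) (N := N) (R₀ := R₀.map X.subtype)
      (p6.symm ▸ map_subtype_le _) (k1.map _) bot_le IsPGroup.of_bot
    have r4 : ¬ IsCyclic R := fun k => k2 ((R₀.equivMapOfInjective _ X.subtype_injective).isCyclic.2
      (r3 ▸ isCyclic_map k _))
    by_contra k
    have k3 := pq_of_not_ex hr hs hsr r2 p3 (r1.trans p2) p1 k
    by_cases h6 : r = 2
    · subst h6
      obtain ⟨k4, k5⟩ := ab_of_fpf r2 r4 p4 (r1.trans p5) k3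
      exact k (hT s hs hsr (p8 k4) (p7 k5) X hN)
    · exact r4 ((Frob.pqCond_of_fpf p4 (r1.trans p5) k3).isCyclic_of_odd r2 h6)
  by_cases h3 : NC 2 X
  · exact key 2 Nat.prime_two h3 (.inl rfl)
  by_cases h4 : ∃ r, r.Prime ∧ NC r X
  · exact h4.elim fun r k => key r k.1 k.2 (.inr h3)
  have : IsZGroup X := ⟨fun p hp P => by_contra fun k => h4 ⟨p, hp, P, P.2, k⟩⟩
  have h5 : Nat.card (commutator X) ≠ 1 := fun k => by
    have : IsMulCommutative X := (commutator_eq_bot_iff X).1 (eq_bot_of_card_eq _ k)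
    open scoped IsMulCommutative in exact hX inferInstance
  obtain ⟨r, hr, h6⟩ := Nat.exists_prime_and_dvd h5
  have h7 : r ≠ 2 := by
    rintro rfl
    obtain ⟨P⟩ : Nonempty (Sylow 2 X) := inferInstance
    exact not_two_dvd P inferInstance h6
  have h8 : r ∣ Nat.card (⁅X, X⁆ : Subgroup (Out K)) := by
    rwa [← map_subtype_commutator, card_map_of_injective X.subtype_injective]
  obtain ⟨N₀, o1, o2, -⟩ := hO
  obtain ⟨f1, f2, f3⟩ := (o2 r hr (h8.trans (card_dvd_of_le ((commutator_mono le_top le_top).trans o1)))).resolve_left h7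
  have h9 := h6.trans (card_subgroup_dvd_card _)
  refine ⟨r, hr, h9, .inr ⟨h7, f1⟩, fun s hs hsr h4 => ?_⟩
  by_cases h5 : s ∣ Nat.card K
  swap
  · obtain ⟨g, -, e⟩ := ex_z hr hs hsr (IsZGroup.isCyclic_commutator X) h6 (h4.resolve_left h5) (mt (f2 s hs) h5)
    exact ex_up ⟨g, g.2, (orderOf_coe g).trans e⟩
  obtain ⟨P, N, p1, p2, p3, p4, p5, p6, p7, -⟩ := frattini hZ hs h5 X
  by_cases h10 : IsCyclic P
  swap
  · exact f3 X h9 s hs hsr (.inr (p7 h10))
  rw [← p6, ← map_commutator] at h8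
  obtain ⟨x, x1, x2, x3⟩ := (op_iff_dvd hr).2 (h8.trans (card_map_dvd _ _))
  obtain ⟨y, y1⟩ := ne_bot_iff_exists_ne_one.1 p4
  obtain ⟨j, hj⟩ := p3 y
  exact ex_of_commute hr hs hsr (p2 ((commutator_le_self N) x1)) (p1 y.2) x2 (fun e => y1 (Subtype.ext e))
    (i := 1) (by rwa [pow_one]) (congrArg Subtype.val hj) (comm_le_cent h10 p5 x1 y y.2).symm

theorem main {G Q : Type*} [Group G] [Group Q] [Finite G] {π : G →* Q} (hπ : Function.Surjective π)
    (hK : Group.IsNilpotent π.ker) (S : Subgroup Q) [S.Normal] (hC : centralizer (S : Set Q) = ⊥)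
    (hp : commutator S = ⊤) (h2 : 2 ∣ Nat.card S) (hA : Adj S) (hn : ¬ IsCyclic (G ⧸ S.comap π)) :
    ∃ r : ℕ, r.Prime ∧ r ∣ Nat.card (G ⧸ S.comap π) ∧
      ∀ s : ℕ, s.Prime → s ∣ Nat.card G → s ≠ r → ∃ g : G, orderOf g = r * s := by
  have := Finite.of_surjective π hπ
  let ψ : G →* MulAut S := MulAut.conjNormal.comp π
  let θ := (QuotientGroup.mk' (Inn S)).comp ψ
  have h1 : ∀ g (x : S), π g = x → ψ g = MulAut.conj x := fun g x e => by
    ext y
    simp [ψ, e]
  have h3 : θ.ker = S.comap π := by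
    ext g
    refine (QuotientGroup.eq_one_iff _).trans ⟨fun ⟨x, hx⟩ => ?_, fun k => ⟨⟨_, k⟩, (h1 g ⟨_, k⟩ rfl).symm⟩⟩
    have : (x : Q)⁻¹ * π g ∈ centralizer (S : Set Q) := fun y hy => by
      have := congrArg (fun β : MulAut S => (β ⟨y, hy⟩ : Q)) hx
      simp only [MulAut.conj_apply, coe_mul, coe_inv, ψ, MonoidHom.comp_apply, MulAut.conjNormal_apply] at this
      rw [mul_assoc, eq_inv_mul_iff_mul_eq, ← mul_assoc, ← mul_assoc, this, inv_mul_cancel_right]
    rw [hC, mem_bot, inv_mul_eq_one] at this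
    exact mem_comap.2 (this ▸ x.2)
  have e : G ⧸ S.comap π ≃* θ.range :=
    (QuotientGroup.quotientMulEquivOfEq h3.symm).trans (QuotientGroup.quotientKerEquivRange θ)
  obtain ⟨r, hr, k1, k2, k3⟩ := hA θ.range fun k => hn (e.isCyclic.2 k)
  refine ⟨r, hr, Nat.card_congr e.toEquiv ▸ k1, fun s hs k4 hsr => ?_⟩
  suffices Ex (⊤ : Subgroup G) (r * s) from this.imp fun _ k => k.2
  have h4 : (S.comap π).map π = S := map_comap_eq_self_of_surjective hπ S
  by_cases h5 : s ∣ Nat.card S ∨ s ∣ Nat.card θ.range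
  · obtain ⟨β, ⟨g, hg⟩, k5⟩ := k3 s hs hsr h5
    obtain ⟨x, hx⟩ := QuotientGroup.eq.1 hg
    obtain ⟨g', hg'⟩ := hπ x
    exact ex_of_map ψ ⟨β, ⟨g * g', trivial, by rw [map_mul, h1 g' x hg', hx, mul_inv_cancel_left]⟩, k5⟩
  have := Fact.mk hr
  have := Fact.mk hs
  have h6 : s ∣ Nat.card π.ker := by
    rw [card_eq_card_quotient_mul_card_subgroup (S.comap π), Nat.card_congr e.toEquiv,
      Frob.card_eq_card_inf_ker_mul π, h4, hs.dvd_mul, hs.dvd_mul] at k4
    exact ((k4.resolve_left fun k => h5 (.inr k)).resolve_right fun k => h5 (.inl k)).trans (card_dvd_of_le inf_le_left)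
  obtain ⟨P⟩ : Nonempty (Sylow s π.ker) := inferInstance
  have := P.characteristic_of_normal (P.normal_of_normalizerCondition normalizerCondition_of_isNilpotent)
  have h7 : P.1.map π.ker.subtype ≠ ⊥ := fun k =>
    P.ne_bot_of_dvd_card h6 ((map_eq_bot_iff_of_injective _ π.ker.subtype_injective).1 k)
  by_contra k
  have h8 : ∀ R : Subgroup G, IsPGroup r R → Frob.PQCond R := fun R hR => Frob.pqCond_of_fpf h7
    (by rw [normalizer_eq_top_iff.2 inferInstance]; exact le_top)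
    (pq_of_not_ex hr hs hsr hR (P.2.map _) le_top le_top k)
  obtain ⟨R₀, k5, k6⟩ | ⟨k5, k6⟩ := k2
  · obtain ⟨T⟩ : Nonempty (Sylow r S) := inferInstance
    obtain ⟨T', t1, t2, t3, -⟩ := exists_lift hr π (N := S.comap π) ((map_subtype_le T.1).trans h4.ge) (T.2.map _) bot_le
      IsPGroup.of_bot
    obtain ⟨R, -, r2, r3, r4⟩ := exists_lift hr θ (N := ⊤) (R₀ := R₀.map θ.range.subtype)
      (MonoidHom.range_eq_map θ ▸ map_subtype_le _) (k5.map _) (T := T')
      (le_inf le_top (t1.trans (h3 ▸ ker_le_comap _ _))) t2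
    have r5 : ∀ C : Subgroup G, IsCyclic C → ¬ R ≤ C ⊔ θ.ker := fun C hc k => by
      have := isCyclic_map hc θ
      have : IsCyclic (R₀.map θ.range.subtype) := isCyclic_of_le (H' := C.map θ) (r3 ▸ map_le_map_iff.2 k)
      exact k6 ((R₀.equivMapOfInjective _ θ.range.subtype_injective).isCyclic.2 this)
    obtain k7 | ⟨rfl, a, b, m, a1, -, a2, -⟩ := Frob.exists_gens_of_forall_mem_zpowers r2
      (Frob.mem_zpowers_of_forall_card_sq_isCyclic r2 (h8 R r2).card_ne_sq)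
    · exact r5 R k7 le_sup_left
    have a3 : T' ≤ zpowers (a : G) := fun x hx => by_contra fun k7 => r5 (zpowers (a : G)) inferInstance fun y hy => by
      obtain ⟨i, e1 | e1⟩ := Frob.exists_eq_zpow_or_of_index_two a1 (b := ⟨x, r4 hx⟩)
        (fun ⟨j, e⟩ => k7 ⟨j, congrArg Subtype.val e⟩) ⟨y, hy⟩
      · exact mem_sup_left ⟨i, (congrArg Subtype.val e1).symm⟩
      · rw [show y = (a : G) ^ i * x from congrArg Subtype.val e1]
        exact mul_mem_sup ⟨i, rfl⟩ (h3 ▸ t1 hx)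
    refine not_two_dvd T ((T.1.equivMapOfInjective _ S.subtype_injective).isCyclic.2
      (t3 ▸ isCyclic_map (isCyclic_of_le a3) π)) ?_
    rwa [hp, card_top]
  obtain ⟨x, hx⟩ := exists_prime_orderOf_dvd_card' r k1
  let L := (zpowers (x : Out S)).comap θ
  obtain ⟨R⟩ : Nonempty (Sylow r L) := inferInstance
  have : IsCyclic R := (R.1.equivMapOfInjective _ L.subtype_injective).isCyclic.2
    ((h8 _ (R.2.map _)).isCyclic_of_odd (R.2.map _) k5)
  refine R.not_dvd_card_commutator_or_not_dvd_index_commutator.elim (fun k7 => k7 ?_) fun k7 => k7 ?_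
  · rw [← card_map_of_injective L.subtype_injective, map_subtype_commutator]
    refine (k6.trans (card_dvd_of_le ?_)).trans (card_map_dvd _ π)
    have a1 : S ≤ L.map π := h4.ge.trans (map_mono (h3 ▸ ker_le_comap _ _))
    rw [map_commutator, ← S.range_subtype, MonoidHom.range_eq_map, ← hp, map_subtype_commutator]
    exact commutator_mono a1 a1
  · let := IsCyclic.commGroup (α := zpowers (x : Out S))
    refine .trans ?_ (index_dvd_of_le (Abelianization.commutator_subset_ker (θ.subgroupComap _)))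
    rw [index_ker, (MonoidHom.range_eq_top (f := θ.subgroupComap _)).2, card_top, Nat.card_zpowers, orderOf_coe, hx]
    rintro ⟨_, i, rfl⟩
    obtain ⟨g, hg⟩ := x.2
    exact ⟨⟨g ^ i, i, by simp [hg]⟩, Subtype.ext ((map_zpow θ g i).trans (by rw [hg]))⟩

end CfsgLib.Adj
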